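import Cfsg.Agent.H6.FiveRow
import Cfsg.Agent.H6.He.Row
import Cfsg.Agent.H4.Hyp
import Cfsg.Agent.H3.Asm35
import Cfsg.Agent.H1.TopPSL
import Cfsg.Agent.H1.TopChev
import Cfsg.Agent.H1.TopHex
import Cfsg.Agent.H2.TwFFin
import Cfsg.Agent.H7.J4Row

/-!
# S1845: assembly (helper6)

`L ∈ ℒ_f*(G, T)`, `L/O₂(L) ≃ L₂(2ⁿ)`, `n > 1`, `G` on the quasithin list: `T ≤ L` or `256 ∤ |G|`.
-/

set_option autoImplicit false

namespace Cfsg.Agent.H6.Asm45

open Subgroup Cfsg Cfsg.Agent.H4.LfTrans Cfsg.Agent.H5.Resid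
open Cfsg.Agent.H1.QsNode (RowT)

universe u

section

variable {G : Type u} [Group G] [Finite G]

/-- **`T ≤ L` in the groups of Lie rank 2 over fields with more than two elements** -/
theorem rowT_large [IsSimpleGroup G] (hFT : H5.Top.FT.{0}) (h : IsLieRankTwoCharTwoLargeField G) : RowT G := by
  rcases h with ⟨F, _, _, hF, h4, h⟩ | ⟨F, _, _, n, hn, hF, h⟩ | ⟨F, _, _, hF, h⟩ | ⟨K, _, _, n, hn, hK, h⟩ | h
  · rcases h with h | h | h <;> obtain ⟨e⟩ := h
    · exact H1.TopPSL.rowT_psl_three h4 e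
    · exact RowT.congr e (H1.RowU.rowT_pSp h4 (fun T hT => hFT T hT))
    · exact H1.TopChev.rowT_gTwo h4 e
  · obtain ⟨e⟩ := h
    have hchar : CharP F 2 := H3.Asm35.charP_of_card_pow (m := n * 2) (by rw [hF, pow_mul])
    have hq : 3 ≤ 2 ^ n := by
      calc 3 ≤ 2 ^ 2 := by norm_num
        _ ≤ 2 ^ n := Nat.pow_le_pow_right (by norm_num) hn
    have : Finite (Cfsg.PSU 4 F (2 ^ n)) := Finite.of_equiv _ e.toEquiv
    obtain ⟨Q, -, -, hrow⟩ := H1.RowU.row_model_four hF hq (fun T hT => hFT T hT)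
    exact RowT.congr e hrow
  · obtain ⟨e⟩ := h
    have hF' : Fintype.card F = 4 ^ 2 := by rw [hF]; norm_num
    have hchar : CharP F 2 := H3.Asm35.charP_of_card_pow (m := 4) (by rw [hF]; norm_num)
    have : Finite (Cfsg.PSU 5 F 4) := Finite.of_equiv _ e.toEquiv
    obtain ⟨Q, -, hrow⟩ := H1.RowU.row_model_five hF' (by norm_num) (fun T hT => hFT T hT)
    exact RowT.congr e hrow
  · obtain ⟨e⟩ := h
    have hchar : CharP K 2 := H3.Asm35.charP_of_card_pow (m := n * 3) (by rw [hK, pow_mul])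
    have hq : IsPrimePow (2 ^ n) := (Nat.prime_two.isPrimePow).pow (by omega)
    exact H1.TopHex.rowT_twD4 hq (by
      calc 4 = 2 ^ 2 := by norm_num
        _ ≤ 2 ^ n := Nat.pow_le_pow_right (by norm_num) hn) hK e
  · exact H2.TwF.rowT h

theorem rowT_five (hFT : H5.Top.FT.{0}) {F : Type} [Field F] [Fintype F] {n : ℕ} (hn : 2 ≤ n)
    (hF : Fintype.card F = (2 ^ n) ^ 2) (e : G ≃* Cfsg.PSU 5 F (2 ^ n)) : RowT G := by
  have hchar : CharP F 2 := H3.Asm35.charP_of_card_pow (m := n * 2) (by rw [hF, pow_mul])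
  have hq : 3 ≤ 2 ^ n := by
    calc 3 ≤ 2 ^ 2 := by norm_num
      _ ≤ 2 ^ n := Nat.pow_le_pow_right (by norm_num) hn
  have : Finite (Cfsg.PSU 5 F (2 ^ n)) := Finite.of_equiv _ e.toEquiv
  obtain ⟨Q, -, hrow⟩ := H1.RowU.row_model_five hF hq (fun T hT => hFT T hT)
  exact RowT.congr e hrow

end

theorem card_hat {X : Type*} [Group X] [Finite X] (h : IsHatA6 X) : Nat.card X = 1080 := by
  obtain ⟨-, h1, ⟨e⟩⟩ := h
  have h2 := Subgroup.card_eq_card_quotient_mul_card_subgroup (Subgroup.center X)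
  rw [h1, Nat.card_congr e.toEquiv, H5.ResidEnd.card_alt_six] at h2
  rw [h2]

/-- **the rows of S1845** -/
theorem rows (hFT0 : H5.Top.FT.{0}) (hFT : H5.Top.FT.{u}) {G : Type u} [Group G] [Finite G] [IsSimpleGroup G]
    (hG : ¬ IsMulCommutative G) (hQ : IsQTKE G) (hE : IsOfEvenCharacteristic G) (hl : IsOnQTKEList G) (T : Sylow 2 G)
    {L : Subgroup G} (hL : L ∈ calLfMax (T : Subgroup G)) {F : Type} [Field F] [Fintype F] [CharP F 2]
    (h4 : 4 ≤ Fintype.card F) (e : (↥L ⧸ Cfsg.pCore 2 ↥L) ≃* Matrix.ProjectiveSpecialLinearGroup (Fin 2) F) :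
    (T : Subgroup G) ≤ L ∨ ¬ 256 ∣ Nat.card G := by
  have hLf : L ∈ calLf (T : Subgroup G) := ⟨hL.1.1, hL.2⟩
  obtain ⟨m, hm, hF⟩ := FiveRow.card_field h4
  obtain ⟨n1, n2, n3, n4⟩ := FiveRow.card_ne hm hF
  rw [← Nat.card_congr e.toEquiv] at n1 n2 n3 n4
  by_cases hR : InResidualCase G
  · obtain ⟨-, -, h⟩ := H4.HypAll.row hFT0 hFT hE hl hR T L hLf
    rcases h with ⟨⟨f⟩, -⟩ | ⟨-, h | h⟩ | ⟨⟨f⟩, -⟩
    · exact absurd ((Nat.card_congr f.toEquiv).trans H5.ResidEnd.card_alt_six) n2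
    · right
      obtain ⟨K, _, _, hK, ⟨g⟩⟩ := h
      rw [Nat.card_congr g.toEquiv, card_u42 hK]; norm_num
    · right
      obtain ⟨K, _, _, hK, ⟨g⟩⟩ := h
      rw [Nat.card_congr g.toEquiv, H4.RowL43.card_psl hK]; norm_num
    · exact absurd ((Nat.card_congr f.toEquiv).trans H5.ResidEnd.card_l3) n1
  by_cases h1 : IsLieRankTwoCharTwoLargeField G
  · exact Or.inl (rowT_large hFT0 h1 T L hL.1.1)
  by_cases h2 : ∃ (F : Type) (_ : Field F) (_ : Fintype F) (n : ℕ), 2 ≤ n ∧ Fintype.card F = (2 ^ n) ^ 2 ∧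
      Nonempty (G ≃* PSU 5 F (2 ^ n))
  · obtain ⟨K, _, _, n, hn, hK, ⟨g⟩⟩ := h2
    exact Or.inl (rowT_five hFT0 hn hK g T L hL.1.1)
  by_cases h3 : ∃ (F : Type) (_ : Field F) (_ : Fintype F), Fintype.card F = 2 ∧
      (Nonempty (G ≃* Matrix.ProjectiveSpecialLinearGroup (Fin 4) F) ∨
        Nonempty (G ≃* Matrix.ProjectiveSpecialLinearGroup (Fin 5) F))
  · exfalso
    obtain ⟨K, _, _, hK, ⟨⟨g⟩⟩ | ⟨⟨g⟩⟩⟩ := h3
    · have hchar : CharP K 2 := H3.Asm36.charP_of_card hK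
      obtain ⟨_, _, ⟨f⟩⟩ := H1.RowPSLFive.row_psl_four hK g T L hLf.1
      exact n1 ((Nat.card_congr f.toEquiv).trans (H3.Asm36.card_psl hK).1)
    · have hchar : CharP K 2 := H3.Asm36.charP_of_card hK
      obtain ⟨_, i, ⟨f⟩⟩ := H1.RowPSLFive.row_psl_five hK g T L hLf.1
      fin_cases i
      · exact n1 ((Nat.card_congr f.toEquiv).trans (H3.Asm36.card_psl hK).1)
      · exact n4 ((Nat.card_congr f.toEquiv).trans (H3.Asm36.card_psl hK).2.1)
  by_cases h5 : Nonempty (G ≃* ↥(alternatingGroup (Fin 9)))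
  · right
    obtain ⟨g⟩ := h5
    rw [Nat.card_congr g.toEquiv, nat_card_alternatingGroup, Nat.card_fin, show Nat.factorial 9 = 362880 by rfl]
    norm_num
  have h6 : Spor.IsoM22 G ∨ Spor.IsoM23 G ∨ Spor.IsoM24 G ∨ Spor.IsoHe G ∨ Spor.IsoJ4 G := by
    by_contra h6
    exact hR ⟨h1, h2, h3, h5, h6⟩
  rcases h6 with h | h | h | h | h
  · right
    obtain ⟨g⟩ := h
    rw [Nat.card_congr g.toEquiv, SporadicA.MathieuRecog.card_M22]; norm_num
  · right
    obtain ⟨g⟩ := h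
    rw [Nat.card_congr g.toEquiv, SporadicA.MathieuRecog.card_M23]; norm_num
  · exfalso
    obtain ⟨g⟩ := h
    have h1 : L.map g.toMonoidHom ∈ calL ((mapSylow g T : Sylow 2 _) : Subgroup _) := by
      rw [coe_mapSylow]
      exact map_mem_calL g hLf.1
    obtain ⟨-, h2⟩ := H3.M24Row.row24 _ h1
    have e1 : Nat.card (L ⧸ pCore 2 L) = Nat.card (↥(L.map g.toMonoidHom) ⧸ pCore 2 ↥(L.map g.toMonoidHom)) :=
      Nat.card_congr (quotEquiv (sm g L)).toEquiv
    rcases h2 with ⟨⟨f⟩⟩ | ⟨⟨f⟩⟩ | ⟨-, -, h2 | h2⟩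
    · apply n4
      rw [e1, Nat.card_congr f.toEquiv, nat_card_alternatingGroup, Nat.card_fin, show Nat.factorial 8 = 40320 by rfl]
    · exact n1 (e1.trans ((Nat.card_congr f.toEquiv).trans H5.ResidEnd.card_l3))
    · exact n2 (e1.trans h2)
    · exact n3 (e1.trans h2)
  · exfalso
    rcases (HeRow.he_mem h T hLf.1).2 with ⟨⟨f⟩⟩ | h2
    · exact n1 ((Nat.card_congr f.toEquiv).trans H5.ResidEnd.card_l3)
    · exact n3 (card_hat h2)
  · exfalso
    exact H7.J4Row.no_lie hG hQ h T hL ⟨F, inferInstance, inferInstance, inferInstance, h4, Or.inl ⟨e⟩⟩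

theorem quasisimple {X : Type*} [Group X] {F : Type} [Field F] [Fintype F] [CharP F 2] (h4 : 4 ≤ Fintype.card F)
    (e : X ≃* Matrix.ProjectiveSpecialLinearGroup (Fin 2) F) : IsQuasisimple X := by
  have hsF : IsSimpleGroup (Matrix.ProjectiveSpecialLinearGroup (Fin 2) F) :=
    TwoFusion.SLTwoFacts.isSimpleGroup_psl (by omega)
  have hs : IsSimpleGroup X := e.isSimpleGroup
  obtain ⟨m, hm, hF⟩ := FiveRow.card_field h4
  have hc := (Nat.card_congr e.toEquiv).trans (FiveRow.card_psl2 (by omega) hF)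
  have : Finite X := Finite.of_equiv _ e.symm.toEquiv
  refine H5.Small.quasi_of_simple (ClassicalGeometry.PSL2Solvable.not_isSolvable_of_simple ?_)
  rw [hc]
  have h1 : 4 ≤ 2 ^ m := by
    calc 4 = 2 ^ 2 := by norm_num
      _ ≤ 2 ^ m := Nat.pow_le_pow_right (by norm_num) hm
  refine Nat.not_prime_mul (by omega) ?_
  have h2 : 4 ^ 2 ≤ (2 ^ m) ^ 2 := Nat.pow_le_pow_left h1 2
  omega

/-- **S1845**, given `N_G(T) ≤ M` -/
theorem main (hFT0 : H5.Top.FT.{0}) (hFT : H5.Top.FT.{u}) {G : Type u} [Group G] [Finite G] [IsSimpleGroup G]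
    (hG : ¬ IsMulCommutative G) (hQ : IsQTKE G) (hE : IsOfEvenCharacteristic G) (hl : IsOnQTKEList G) (T : Sylow 2 G)
    (M L : Subgroup G) (hM : M ∈ maxTwoLocalsContaining (T : Subgroup G)) (hL : L ∈ calLfMax (T : Subgroup G))
    (hN : M ≤ normalizer (L : Set G))
    (hL2 : ∃ (F : Type) (_ : Field F) (_ : Fintype F), CharP F 2 ∧ 4 ≤ Fintype.card F ∧
      Nonempty ((↥L ⧸ Cfsg.pCore 2 ↥L) ≃* Matrix.ProjectiveSpecialLinearGroup (Fin 2) F))
    (hTM : normalizer ((T : Subgroup G) : Set G) ≤ M)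
    (S : Subgroup G) (hS : S ≤ (T : Subgroup G))
    (hSL : ∃ P : Sylow 2 ↥L, (P : Subgroup ↥L) = (S ⊓ L).subgroupOf L) :
    normalizer (S : Set G) ≤ M := by
  have h2 : Fact (Nat.Prime 2) := ⟨Nat.prime_two⟩
  obtain ⟨F, _, _, hch, h4, ⟨e⟩⟩ := hL2
  have hLf : L ∈ calLf (T : Subgroup G) := ⟨hL.1.1, hL.2⟩
  have hTL : (T : Subgroup G) ≤ normalizer (L : Set G) := hM.2.trans hN
  -- `S ∩ L = T ∩ L`
  have hST : S ⊓ L = (T : Subgroup G) ⊓ L := by
    obtain ⟨P, hP⟩ := hSL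
    have hp : IsPGroup 2 ↥(((T : Subgroup G) ⊓ L).subgroupOf L) :=
      (T.isPGroup'.to_le (inf_le_left : (T : Subgroup G) ⊓ L ≤ T)).of_injective
        ((Subgroup.subgroupOfEquivOfLe (inf_le_right : (T : Subgroup G) ⊓ L ≤ L)).toMonoidHom)
        (Subgroup.subgroupOfEquivOfLe _).injective
    have hle : (P : Subgroup ↥L) ≤ ((T : Subgroup G) ⊓ L).subgroupOf L := by
      rw [hP]
      exact Subgroup.comap_mono (inf_le_inf_right L hS)
    have heq := P.3 hp hle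
    apply le_antisymm (inf_le_inf_right L hS)
    intro x hx
    have h3 : (⟨x, (mem_inf.1 hx).2⟩ : ↥L) ∈ ((T : Subgroup G) ⊓ L).subgroupOf L := hx
    rw [heq, hP] at h3
    exact h3
  have hcase : (T : Subgroup G) ≤ L ∨ (Nat.card ↥((T : Subgroup G) ⊓ L : Subgroup G) = 64 ∧ ¬ 256 ∣ Nat.card G ∧
      normalizer (((T : Subgroup G) ⊓ L : Subgroup G) : Set G) ≤
        normalizer (((Cfsg.pCore 2 ↥L).map L.subtype : Subgroup G) : Set G)) := by
    rcases rows hFT0 hFT hG hQ hE hl T hL h4 e with h | h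
    · exact Or.inl h
    · rcases FiveRow.main h T hLf hTL h4 e with h5 | ⟨h5, h6⟩
      · exact Or.inl h5
      · exact Or.inr ⟨h5, h, h6⟩
  rcases hcase with h | ⟨h64, h256, hn⟩
  · -- `S = T`
    have h3 : S = (T : Subgroup G) := by
      apply le_antisymm hS
      rw [inf_eq_left.2 h] at hST
      rw [← hST]; exact inf_le_left
    rw [h3]; exact hTM
  · by_cases h3 : S = (T : Subgroup G)
    · rw [h3]; exact hTM
    · -- `S = T ∩ L`
      have h5 : (T : Subgroup G) ⊓ L ≤ S := by rw [← hST]; exact inf_le_left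
      have h6 : S = (T : Subgroup G) ⊓ L := by
        symm
        apply Subgroup.eq_of_le_of_card_ge h5
        rw [h64]
        obtain ⟨t, ht⟩ := IsPGroup.iff_card.1 T.isPGroup'
        have ht7 : t ≤ 7 := by
          by_contra h
          apply h256
          refine Dvd.dvd.trans ?_ (Subgroup.card_subgroup_dvd_card (T : Subgroup G))
          rw [ht, show 256 = 2 ^ 8 by norm_num]
          exact pow_dvd_pow 2 (by omega)
        obtain ⟨s, hs⟩ := IsPGroup.iff_card.1 (T.isPGroup'.to_le hS)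
        have hlt : Nat.card ↥S < Nat.card (T : Subgroup G) := by
          refine lt_of_le_of_ne (Nat.le_of_dvd Nat.card_pos (Subgroup.card_dvd_of_le hS)) fun h => h3 ?_
          exact Subgroup.eq_of_le_of_card_ge hS h.ge
        rw [hs, ht] at hlt
        have hst : s < t := (Nat.pow_lt_pow_iff_right (by norm_num)).1 hlt
        rw [hs]
        calc 2 ^ s ≤ 2 ^ 6 := Nat.pow_le_pow_right (by norm_num) (by omega)
          _ = 64 := by norm_num
      rw [h6]
      refine hn.trans ?_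
      -- `M = N(O₂(L))`
      have h7 : M ≤ normalizer (((Cfsg.pCore 2 ↥L).map L.subtype : Subgroup G) : Set G) :=
        hN.trans (FiveRow.normalizer_le_core L)
      have h8 : IsTwoLocal (normalizer (((Cfsg.pCore 2 ↥L).map L.subtype : Subgroup G) : Set G)) := by
        refine ⟨(Cfsg.pCore 2 ↥L).map L.subtype, (Lib.Cores.pCore_isPGroup 2).map _, fun hb => ?_, rfl⟩
        have h9 := (H4.Small.acts_inner hLf).2.eight_le
        have h10 := FiveRow.uu_le L
        rw [hb, le_bot_iff] at h10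
        rw [h10, Subgroup.card_bot] at h9
        omega
      exact (hM.1.2 _ h8 h7).le

end Cfsg.Agent.H6.Asm45
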