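import Cfsg.Agent.H6.TwoEA
import Cfsg.Agent.H5.Row64
import Cfsg.Agent.S0243
import Cfsg.Agent.TwoFusion.SLTwoFacts
import Cfsg.Agent.S0252

/-!
# `L/O₂(L) ≃ A₅` in groups with `|G|₂ ≤ 128` (helper6)

`L ∈ ℒ_f(G, T)`, `L/O₂(L) ≃ A₅`, `T ≤ N(L)`, `256 ∤ |G|`: `T ≤ L` or `|T ∩ L| = 64` and `N(T ∩ L) ≤ N(O₂(L))`.
-/

set_option autoImplicit false

namespace Cfsg.Agent.H6.FiveRow

open Subgroup Cfsg Cfsg.Agent.H4.Lf Cfsg.Agent.H4.Small
open Cfsg.Agent.QTUniq.Local (le_normalizer_map_pCore)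

universe u

variable {G : Type u} [Group G]

theorem uu_le (L : Subgroup G) : UU L ≤ (Cfsg.pCore 2 ↥L).map L.subtype := fun _ hx => (mem_omega.1 hx).1

/-- `N(L) ≤ N(O₂(L))` -/
theorem normalizer_le_core [Finite G] (L : Subgroup G) :
    normalizer (L : Set G) ≤ normalizer (((Cfsg.pCore 2 ↥L).map L.subtype : Subgroup G) : Set G) := by
  intro g hg
  rw [TwoEA.mem_norm_iff] at hg ⊢
  have h1 := H4.LfTrans.map_pCoreTwoOf (MulAut.conj g) L
  rw [hg] at h1
  exact h1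

/-- the kernel of the action on `Ω₁(Z(O₂(L)))` -/
theorem kernel_eq {T L : Subgroup G} (hL : L ∈ calLf T) [hs : IsSimpleGroup (↥L ⧸ Cfsg.pCore 2 ↥L)] :
    (centralizer (UU L : Set G)).subgroupOf L = Cfsg.pCore 2 ↥L := by
  obtain ⟨hAL, hA⟩ := acts_inner hL
  set C : Subgroup ↥L := (centralizer (UU L : Set G)).subgroupOf L with hC
  have hCn : C.Normal := by
    rw [hC, ← act_ker hA.norm]; infer_instance
  have h1 : Cfsg.pCore 2 ↥L ≤ C := by
    intro x hx
    rw [hC, mem_subgroupOf, mem_centralizer_iff]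
    intro u hu
    exact ((mem_omega.1 hu).2.1 x ⟨x, hx, rfl⟩).symm
  have hm : (C.map (QuotientGroup.mk' (Cfsg.pCore 2 ↥L))).Normal :=
    hCn.map _ (QuotientGroup.mk'_surjective _)
  have hk : C = (C.map (QuotientGroup.mk' (Cfsg.pCore 2 ↥L))).comap (QuotientGroup.mk' (Cfsg.pCore 2 ↥L)) := by
    rw [Subgroup.comap_map_eq, QuotientGroup.ker_mk', sup_eq_left.2 h1]
  rcases hs.eq_bot_or_eq_top_of_normal _ hm with h | h
  · rw [hk, h, MonoidHom.comap_bot, QuotientGroup.ker_mk']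
  · exfalso
    rw [h, Subgroup.comap_top] at hk
    apply hA.ne
    intro x hx
    have h2 : (⟨x, hx⟩ : ↥L) ∈ C := by rw [hk]; exact mem_top _
    exact h2

theorem relIndex_eq' {T L : Subgroup G} (hL : L ∈ calLf T) [IsSimpleGroup (↥L ⧸ Cfsg.pCore 2 ↥L)] :
    (centralizer (UU L : Set G)).relIndex L = Nat.card (↥L ⧸ Cfsg.pCore 2 ↥L) := by
  show ((centralizer (UU L : Set G)).subgroupOf L).index = _
  rw [kernel_eq hL]; rfl

theorem card_alt5 : Nat.card (alternatingGroup (Fin 5)) = 60 := by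
  rw [nat_card_alternatingGroup, Nat.card_fin, show Nat.factorial 5 = 120 by rfl]

/-- `L/O₂(L) ≃ A₅`, `O₂(L)` elementary abelian of order 16, `C_L(O₂(L)) = O₂(L)`, `|T ∩ L| = 64` -/
structure Five (T L : Subgroup G) : Prop where
  card : Nat.card ↥((Cfsg.pCore 2 ↥L).map L.subtype) = 16
  comm : ∀ a ∈ (Cfsg.pCore 2 ↥L).map L.subtype, ∀ b ∈ (Cfsg.pCore 2 ↥L).map L.subtype, a * b = b * a
  sq : ∀ a ∈ (Cfsg.pCore 2 ↥L).map L.subtype, a * a = 1
  cen : ∀ x ∈ L, (∀ v ∈ (Cfsg.pCore 2 ↥L).map L.subtype, x * v = v * x) → x ∈ (Cfsg.pCore 2 ↥L).map L.subtype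
  psi : ∃ ψ : ↥L →* alternatingGroup (Fin 5), Function.Surjective ψ ∧
    ∀ x : ↥L, ψ x = 1 ↔ (x : G) ∈ (Cfsg.pCore 2 ↥L).map L.subtype
  cardT : Nat.card ↥(T ⊓ L : Subgroup G) = 64
  cardL : Nat.card ↥L = 960

/-- **The row `A₅`** -/
theorem main5' [Finite G] (h256 : ¬ 256 ∣ Nat.card G) (T : Sylow 2 G) {L : Subgroup G}
    (hL : L ∈ calLf (T : Subgroup G)) (e : (↥L ⧸ Cfsg.pCore 2 ↥L) ≃* alternatingGroup (Fin 5)) :
    (T : Subgroup G) ≤ L ∨ Five (T : Subgroup G) L := by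
  have h2 : Fact (Nat.Prime 2) := ⟨Nat.prime_two⟩
  have hsA : IsSimpleGroup (alternatingGroup (Fin 5)) := alternatingGroup.isSimpleGroup (by simp)
  have hs : IsSimpleGroup (↥L ⧸ Cfsg.pCore 2 ↥L) := e.isSimpleGroup
  obtain ⟨hAL, hA⟩ := acts_inner hL
  have h60 : Nat.card (↥L ⧸ Cfsg.pCore 2 ↥L) = 60 := (Nat.card_congr e.toEquiv).trans card_alt5
  have hrel : (centralizer (UU L : Set G)).relIndex L = 60 := (relIndex_eq' hL).trans h60
  have hcard := Cfsg.Agent.H5.Top.card_eq_mul (X := ↥L)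
  rw [h60] at hcard
  obtain ⟨n, hn⟩ := hA.exists_card
  have h8 := hA.eight_le
  have hn3 : n ≠ 3 := by
    intro h
    have := hA.eq_of_eight (by rw [hn, h]; norm_num)
    omega
  have hn4 : 4 ≤ n := by
    by_contra h4
    rw [hn] at h8
    have : n ≤ 2 := by omega
    have h5 : 2 ^ n ≤ 2 ^ 2 := Nat.pow_le_pow_right (by norm_num) this
    omega
  have hp : IsPGroup 2 (Cfsg.pCore 2 ↥L) := Cfsg.Agent.Lib.Cores.pCore_isPGroup 2
  obtain ⟨k, hk⟩ := IsPGroup.iff_card.1 hp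
  have hmapc : Nat.card ↥((Cfsg.pCore 2 ↥L).map L.subtype) = 2 ^ k := by
    rw [Nat.card_congr ((Cfsg.pCore 2 ↥L).equivMapOfInjective _ L.subtype_injective).symm.toEquiv, hk]
  have hnk : n ≤ k := by
    have h1 := Subgroup.card_dvd_of_le (uu_le L)
    rw [hn, hmapc] at h1
    exact (Nat.pow_dvd_pow_iff_le_right (by norm_num)).1 h1
  have hLG : Nat.card ↥L ∣ Nat.card G := Subgroup.card_subgroup_dvd_card L
  rw [hk] at hcard
  have hk5 : k ≤ 5 := by
    by_contra h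
    apply h256
    refine Dvd.dvd.trans ?_ hLG
    rw [hcard]
    have h3 : 2 ^ 6 ∣ 2 ^ k := pow_dvd_pow 2 (by omega)
    exact (by norm_num : 256 ∣ 60 * 2 ^ 6).trans (Nat.mul_dvd_mul_left 60 h3)
  -- the order of `T`
  obtain ⟨t, ht⟩ := IsPGroup.iff_card.1 T.isPGroup'
  have htG : Nat.card (T : Subgroup G) ∣ Nat.card G := Subgroup.card_subgroup_dvd_card _
  have ht7 : t ≤ 7 := by
    by_contra h
    apply h256
    refine Dvd.dvd.trans ?_ htG
    rw [ht, show 256 = 2 ^ 8 by norm_num]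
    exact pow_dvd_pow 2 (by omega)
  have hk45 : k = 4 ∨ k = 5 := by omega
  rcases hk45 with rfl | rfl
  · right
    have hn4' : n = 4 := by omega
    subst hn4'
    have hUV : UU L = (Cfsg.pCore 2 ↥L).map L.subtype :=
      Subgroup.eq_of_le_of_card_ge (uu_le L) (by rw [hmapc, hn])
    -- the order of `T ∩ L`
    have hidx := not_two_dvd_index T hL.1
    have h64 : Nat.card ↥((T : Subgroup G) ⊓ L : Subgroup G) = 64 := by
      have h1 := ((T : Subgroup G).subgroupOf L).card_mul_index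
      have h3 : Nat.card ↥((T : Subgroup G).subgroupOf L) = Nat.card ↥((T : Subgroup G) ⊓ L : Subgroup G) := by
        rw [← Subgroup.inf_subgroupOf_right]
        exact Nat.card_congr (Subgroup.subgroupOfEquivOfLe inf_le_right).toEquiv
      obtain ⟨j, hj⟩ := IsPGroup.iff_card.1 (T.isPGroup'.to_le (inf_le_left : (T : Subgroup G) ⊓ L ≤ T))
      rw [h3, hj, hcard] at h1
      rw [hj]
      set i := ((T : Subgroup G).subgroupOf L).index with hi
      have hj6 : j ≤ 6 := by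
        by_contra h
        have h4 : 2 ^ 7 ∣ 60 * 2 ^ 4 := (pow_dvd_pow 2 (by omega : 7 ≤ j)).trans (Dvd.intro _ h1)
        norm_num at h4
      have hj6' : 6 ≤ j := by
        by_contra h
        have h5 : j ≤ 5 := by omega
        apply hidx
        have h6 : 2 ^ j * i = 2 ^ j * (2 ^ (6 - j) * 15) := by
          rw [h1, ← mul_assoc, ← pow_add, show j + (6 - j) = 6 by omega]
          norm_num
        have h7 : i = 2 ^ (6 - j) * 15 := Nat.eq_of_mul_eq_mul_left (by positivity) h6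
        rw [h7]
        exact (dvd_pow_self 2 (by omega)).mul_right _
      have : j = 6 := by omega
      rw [this]; norm_num
    have hmemV : ∀ x : ↥L, x ∈ Cfsg.pCore 2 ↥L ↔ (x : G) ∈ (Cfsg.pCore 2 ↥L).map L.subtype := by
      intro x
      constructor
      · exact fun h => ⟨_, h, rfl⟩
      · rintro ⟨s, hs, h⟩
        have : s = x := Subtype.ext h
        rwa [← this]
    let ψ : ↥L →* alternatingGroup (Fin 5) := e.toMonoidHom.comp (QuotientGroup.mk' (Cfsg.pCore 2 ↥L))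
    exact
      { card := by rw [hmapc]; norm_num
        comm := by rw [← hUV]; exact hA.comm
        sq := by rw [← hUV]; exact hA.sq
        cen := by
          rw [← hUV]
          intro x hx h
          have h1 : (⟨x, hx⟩ : ↥L) ∈ Cfsg.pCore 2 ↥L := by
            rw [← kernel_eq hL, mem_subgroupOf, mem_centralizer_iff]
            exact fun v hv => (h v hv).symm
          rw [hUV]
          exact (hmemV _).1 h1
        psi := by
          refine ⟨ψ, e.surjective.comp (QuotientGroup.mk'_surjective _), fun x => ?_⟩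
          rw [← hmemV]
          show e (QuotientGroup.mk' _ x) = 1 ↔ _
          rw [MulEquiv.map_eq_one_iff, QuotientGroup.mk'_apply, QuotientGroup.eq_one_iff]
        cardT := h64
        cardL := by rw [hcard]; norm_num }
  · left
    apply Cfsg.Agent.H5.Row64.le_of_dvd T hL.1
    rw [ht, hcard]
    exact (pow_dvd_pow 2 ht7).trans (by norm_num)

theorem Five.normalizer_le [Finite G] {T : Sylow 2 G} {L : Subgroup G} (h : Five (T : Subgroup G) L)
    (hL : L ∈ calLf (T : Subgroup G)) (hTL : (T : Subgroup G) ≤ normalizer (L : Set G)) :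
    normalizer (((T : Subgroup G) ⊓ L : Subgroup G) : Set G) ≤
        normalizer (((Cfsg.pCore 2 ↥L).map L.subtype : Subgroup G) : Set G) := by
  have h2 : Fact (Nat.Prime 2) := ⟨Nat.prime_two⟩
  obtain ⟨ψ, hψ, hk⟩ := h.psi
  have hLN : L ≤ normalizer (((Cfsg.pCore 2 ↥L).map L.subtype : Subgroup G) : Set G) := le_normalizer_map_pCore 2 L
  have hTT : (T : Subgroup G) ≤ normalizer (((T : Subgroup G) ⊓ L : Subgroup G) : Set G) := by
    intro g hg
    have key : ∀ g ∈ (T : Subgroup G), ∀ x ∈ (T : Subgroup G) ⊓ L, g * x * g⁻¹ ∈ (T : Subgroup G) ⊓ L := by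
      intro g hg x hx
      exact mem_inf.2 ⟨mul_mem (mul_mem hg (mem_inf.1 hx).1) (inv_mem hg), (mem_normalizer_iff.1 (hTL hg) x).1 (mem_inf.1 hx).2⟩
    rw [mem_normalizer_iff]
    intro x
    refine ⟨key g hg x, fun hx => ?_⟩
    have h1 := key g⁻¹ (inv_mem hg) _ hx
    have e : g⁻¹ * (g * x * g⁻¹) * g⁻¹⁻¹ = x := by group
    rwa [e] at h1
  have hVT : (Cfsg.pCore 2 ↥L).map L.subtype ≤ (T : Subgroup G) ⊓ L :=
    le_inf ((core_le le_sup_left (subnormal hL.1)).trans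
      (Cfsg.Agent.QTUniq.Local.map_pCore_le_sylow T le_sup_right)) (map_subtype_le _)
  apply TwoEA.normalizer_le T (hTL.trans (normalizer_le_core L)) hTT hVT h.card h.cardT (inf_le_right.trans hLN) h.comm h.sq
  intro x hx hxV hxx
  exact TwoEA.card_cent_le hLN h.card h.comm h.cen ψ hψ hk (mem_inf.1 hx).2 hxV (by rw [hxx]; exact one_mem _)

/-! ### `L₂(q)` -/

theorem card_field {F : Type*} [Field F] [Fintype F] [CharP F 2] (h4 : 4 ≤ Fintype.card F) :
    ∃ m, 2 ≤ m ∧ Fintype.card F = 2 ^ m := by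
  obtain ⟨m, -, hm⟩ := FiniteField.card F 2
  refine ⟨m, ?_, hm⟩
  by_contra h
  have h1 : (m : ℕ) ≤ 1 := by omega
  have h2 : 2 ^ (m : ℕ) ≤ 2 ^ 1 := Nat.pow_le_pow_right (by norm_num) h1
  omega

theorem card_psl2 {F : Type*} [Field F] [Fintype F] {m : ℕ} (hm : 1 ≤ m) (hF : Fintype.card F = 2 ^ m) :
    Nat.card (Matrix.ProjectiveSpecialLinearGroup (Fin 2) F) = 2 ^ m * ((2 ^ m) ^ 2 - 1) := by
  have h := Cfsg.Agent.S0243.result hF 2 le_rfl
  have hq : 2 ≤ 2 ^ m := by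
    calc 2 = 2 ^ 1 := by norm_num
      _ ≤ 2 ^ m := Nat.pow_le_pow_right (by norm_num) hm
  have hg : Nat.gcd 2 (2 ^ m - 1) = 1 := by
    rw [Nat.Prime.coprime_iff_not_dvd Nat.prime_two |>.2]
    intro h2
    have h3 : 2 ∣ 2 ^ m := dvd_pow_self 2 (by omega)
    have h4 := (Nat.dvd_sub h3 h2)
    have h5 : 2 ^ m - (2 ^ m - 1) = 1 := by omega
    rw [h5] at h4
    norm_num at h4
  rw [hg, one_mul, Fin.prod_univ_two] at h
  generalize 2 ^ m = q at h hq ⊢
  simp only [Fin.val_zero, pow_zero, Fin.val_one, pow_one] at h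
  have h6 : q ^ 2 - q = (q - 1) * q := by
    rw [Nat.sub_mul, one_mul, pow_two]
  rw [h6] at h
  have h7 : (q - 1) * Nat.card (Matrix.ProjectiveSpecialLinearGroup (Fin 2) F) = (q - 1) * (q * (q ^ 2 - 1)) := by
    rw [h]; ring
  exact Nat.eq_of_mul_eq_mul_left (by omega) h7

theorem card_ne {F : Type*} [Field F] [Fintype F] {m : ℕ} (hm : 2 ≤ m) (hF : Fintype.card F = 2 ^ m) :
    Nat.card (Matrix.ProjectiveSpecialLinearGroup (Fin 2) F) ≠ 168 ∧
    Nat.card (Matrix.ProjectiveSpecialLinearGroup (Fin 2) F) ≠ 360 ∧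
    Nat.card (Matrix.ProjectiveSpecialLinearGroup (Fin 2) F) ≠ 1080 ∧
    Nat.card (Matrix.ProjectiveSpecialLinearGroup (Fin 2) F) ≠ 20160 := by
  rw [card_psl2 (by omega) hF]
  by_cases h5 : 5 ≤ m
  · have h6 : 32 ≤ 2 ^ m := by
      calc 32 = 2 ^ 5 := by norm_num
        _ ≤ 2 ^ m := Nat.pow_le_pow_right (by norm_num) h5
    have h7 : 1023 ≤ (2 ^ m) ^ 2 - 1 := by
      have h8 : 32 ^ 2 ≤ (2 ^ m) ^ 2 := Nat.pow_le_pow_left h6 2
      omega
    have h8 := Nat.mul_le_mul h6 h7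
    refine ⟨?_, ?_, ?_, ?_⟩ <;> omega
  · interval_cases m <;> norm_num

/-- **`L/O₂(L) ≃ L₂(q)`, `q ≥ 4` even, `|G|₂ ≤ 128`** -/
theorem main' [Finite G] (h256 : ¬ 256 ∣ Nat.card G) (T : Sylow 2 G) {L : Subgroup G}
    (hL : L ∈ calLf (T : Subgroup G))
    {F : Type*} [Field F] [Fintype F] [CharP F 2] (h4 : 4 ≤ Fintype.card F)
    (e : (↥L ⧸ Cfsg.pCore 2 ↥L) ≃* Matrix.ProjectiveSpecialLinearGroup (Fin 2) F) :
    (T : Subgroup G) ≤ L ∨ Five (T : Subgroup G) L := by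
  obtain ⟨m, hm, hF⟩ := card_field h4
  by_cases hm2 : m = 2
  · obtain ⟨f⟩ := Cfsg.Agent.S0252.result (F := F) (by rw [hF, hm2]; norm_num)
    exact main5' h256 T hL (e.trans f)
  · left
    have h2 : Fact (Nat.Prime 2) := ⟨Nat.prime_two⟩
    have hsF : IsSimpleGroup (Matrix.ProjectiveSpecialLinearGroup (Fin 2) F) :=
      Cfsg.Agent.TwoFusion.SLTwoFacts.isSimpleGroup_psl (by omega)
    have hs : IsSimpleGroup (↥L ⧸ Cfsg.pCore 2 ↥L) := e.isSimpleGroup
    obtain ⟨hAL, hA⟩ := acts_inner hL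
    have hc := (Nat.card_congr e.toEquiv).trans (card_psl2 (by omega) hF)
    have hrel := relIndex_eq' hL
    have hcard := Cfsg.Agent.H5.Top.card_eq_mul (X := ↥L)
    obtain ⟨n, hn⟩ := hA.exists_card
    have h8 := hA.eight_le
    have hn3 : n ≠ 3 := by
      intro h
      have h1 := hA.eq_of_eight (by rw [hn, h]; norm_num)
      rw [hrel, Nat.card_congr e.toEquiv] at h1
      exact (card_ne hm hF).1 h1
    have hn4 : 4 ≤ n := by
      by_contra h4
      rw [hn] at h8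
      have : n ≤ 2 := by omega
      have h5 : 2 ^ n ≤ 2 ^ 2 := Nat.pow_le_pow_right (by norm_num) this
      omega
    obtain ⟨t, ht⟩ := IsPGroup.iff_card.1 T.isPGroup'
    have htG : Nat.card (T : Subgroup G) ∣ Nat.card G := Subgroup.card_subgroup_dvd_card _
    have ht7 : t ≤ 7 := by
      by_contra h
      apply h256
      refine Dvd.dvd.trans ?_ htG
      rw [ht, show 256 = 2 ^ 8 by norm_num]
      exact pow_dvd_pow 2 (by omega)
    apply Cfsg.Agent.H5.Row64.le_of_dvd T hL.1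
    have h1 : Nat.card ↥(UU L) ∣ Nat.card (Cfsg.pCore 2 ↥L) := by
      have h1 := Subgroup.card_dvd_of_le (uu_le L)
      rwa [Nat.card_congr ((Cfsg.pCore 2 ↥L).equivMapOfInjective _ L.subtype_injective).symm.toEquiv] at h1
    rw [hcard, hc, ht]
    have h3 : 2 ^ 3 * 2 ^ 4 ∣ 2 ^ m * ((2 ^ m) ^ 2 - 1) * Nat.card (Cfsg.pCore 2 ↥L) := by
      apply Nat.mul_dvd_mul
      · exact (pow_dvd_pow 2 (by omega)).mul_right _
      · rw [hn] at h1
        exact (pow_dvd_pow 2 hn4).trans h1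
    refine Dvd.dvd.trans ?_ h3
    rw [← pow_add]
    exact pow_dvd_pow 2 ht7

/-- **the conclusion of S1845 for `|G|₂ ≤ 128`** -/
theorem main [Finite G] (h256 : ¬ 256 ∣ Nat.card G) (T : Sylow 2 G) {L : Subgroup G}
    (hL : L ∈ calLf (T : Subgroup G)) (hTL : (T : Subgroup G) ≤ normalizer (L : Set G))
    {F : Type*} [Field F] [Fintype F] [CharP F 2] (h4 : 4 ≤ Fintype.card F)
    (e : (↥L ⧸ Cfsg.pCore 2 ↥L) ≃* Matrix.ProjectiveSpecialLinearGroup (Fin 2) F) :
    (T : Subgroup G) ≤ L ∨ (Nat.card ↥((T : Subgroup G) ⊓ L : Subgroup G) = 64 ∧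
      normalizer (((T : Subgroup G) ⊓ L : Subgroup G) : Set G) ≤
        normalizer (((Cfsg.pCore 2 ↥L).map L.subtype : Subgroup G) : Set G)) := by
  rcases main' h256 T hL h4 e with h | h
  · exact Or.inl h
  · exact Or.inr ⟨h.cardT, h.normalizer_le hL hTL⟩

end Cfsg.Agent.H6.FiveRow
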