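import Cfsg.Prelude.Def_QuasithinSetup
import Cfsg.Agent.H5.Small

/-!
# Members of `ℒ(G, T)` in `M ≥ T` with `M / O₂(M) ≃ 3·S₆` (helper6)

* `odd_index`: a subgroup of `S₆` of odd index is solvable or `S₆`;
* `Hat π a b`: `π : Y → S₆` is surjective with kernel of order 3, `a`, `b` are even, centralize the kernel and
  `1 ≠ ⁅a, b⁆ ∈ ker π`;
* `Hat.row`: the members of `ℒ(G, T)` in `M`, if `M` maps onto `Y` with kernel a 2-group.
-/

set_option autoImplicit false

namespace Cfsg.Agent.H6.HatSix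

open Subgroup Cfsg

theorem not_solvable_alt6 : ¬ Group.IsSolvable (alternatingGroup (Fin 6)) := by
  intro h
  have h1 : Group.IsSolvable (Equiv.Perm (Fin 6)) := by
    refine Group.isSolvable_of_ker_le_range (alternatingGroup (Fin 6)).subtype (Equiv.Perm.sign (α := Fin 6)) ?_
    rw [Subgroup.range_subtype]
    exact le_rfl
  exact Equiv.Perm.not_isSolvable (X := Fin 6) (by rw [Cardinal.mk_fin]; norm_num) h1

instance simple_alt6 : IsSimpleGroup (alternatingGroup (Fin 6)) := alternatingGroup.isSimpleGroup (by simp)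

theorem quasi_alt6 : IsQuasisimple (alternatingGroup (Fin 6)) :=
  H5.Small.quasi_of_simple not_solvable_alt6

theorem perfect_alt6 : ⁅alternatingGroup (Fin 6), alternatingGroup (Fin 6)⁆ = alternatingGroup (Fin 6) := by
  have h1 := quasi_alt6.1
  rw [Group.isPerfect_def, commutator_def] at h1
  have h2 := congrArg (Subgroup.map (alternatingGroup (Fin 6)).subtype) h1
  rw [map_commutator, ← MonoidHom.range_eq_map, range_subtype] at h2
  exact h2

theorem card_perm6 : Nat.card (Equiv.Perm (Fin 6)) = 720 := by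
  rw [Nat.card_eq_fintype_card, Fintype.card_perm, Fintype.card_fin]; rfl

/-- **A subgroup of `S₆` of odd index is solvable or `S₆`.** -/
theorem odd_index {S : Subgroup (Equiv.Perm (Fin 6))} (h : Odd S.index) : Group.IsSolvable S ∨ S = ⊤ := by
  have h1 := S.card_mul_index
  rw [card_perm6] at h1
  have h2 : S.index ∣ 45 := by
    have h3 : S.index ∣ 45 * 16 := Dvd.intro_left _ h1
    have h4 : Nat.Coprime S.index 16 := by
      have : Nat.Coprime S.index (2 ^ 4) := Nat.Coprime.pow_right 4 (Nat.coprime_two_right.2 h)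
      exact this
    exact h4.dvd_of_dvd_mul_right h3
  have h5 : S.index ≤ 45 := Nat.le_of_dvd (by norm_num) h2
  have h6 : S.index = 1 ∨ S.index = 3 ∨ S.index = 5 ∨ S.index = 9 ∨ S.index = 15 ∨ S.index = 45 := by
    interval_cases hS : S.index <;> revert h2 <;> decide
  rcases h6 with h7 | h7 | h7 | h7 | h7 | h7
  · right; exact Subgroup.index_eq_one.1 h7
  · exfalso
    rw [h7] at h1
    have h8 : Nat.card (Equiv.Perm (Fin 6) ⧸ S) = 3 := h7
    have hfin : Finite (Equiv.Perm (Fin 6) ⧸ S) := Nat.finite_of_card_ne_zero (by rw [h8]; norm_num)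
    -- the action on the cosets
    let f : Equiv.Perm (Fin 6) →* Equiv.Perm (Equiv.Perm (Fin 6) ⧸ S) := MulAction.toPermHom _ _
    have hsol : Group.IsSolvable f.range := by
      have h9 : Nat.card (Equiv.Perm (Equiv.Perm (Fin 6) ⧸ S)) = 6 := by
        classical
        have : Fintype (Equiv.Perm (Fin 6) ⧸ S) := Fintype.ofFinite _
        rw [Nat.card_eq_fintype_card, Fintype.card_perm, ← Nat.card_eq_fintype_card, h8]; rfl
      have h10 : Nat.card f.range ∣ 6 := (card_subgroup_dvd_card f.range).trans (dvd_of_eq h9)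
      exact H5.Small.solvable_of_lt _ rfl (lt_of_le_of_lt (Nat.le_of_dvd (by norm_num) h10) (by norm_num))
    have h11 : alternatingGroup (Fin 6) ≤ f.ker := by
      have h12 := H1.Tight.map_eq_bot_of_perfect f.rangeRestrict perfect_alt6
      rwa [Subgroup.map_eq_bot_iff, MonoidHom.ker_rangeRestrict] at h12
    have h13 : alternatingGroup (Fin 6) ≤ S := by
      intro x hx
      have h14 := MonoidHom.mem_ker.1 (h11 hx)
      have h15 := congrArg (fun σ : Equiv.Perm (Equiv.Perm (Fin 6) ⧸ S) => σ ((1 : Equiv.Perm (Fin 6)) : _ ⧸ S)) h14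
      have h16 : ((x * 1 : Equiv.Perm (Fin 6)) : Equiv.Perm (Fin 6) ⧸ S) = ((1 : Equiv.Perm (Fin 6)) : _ ⧸ S) := h15
      rw [QuotientGroup.eq, mul_one, mul_one, inv_mem_iff] at h16
      exact h16
    have h17 := card_dvd_of_le h13
    have h18 : Nat.card (alternatingGroup (Fin 6)) = 360 := by
      rw [Nat.card_eq_fintype_card, card_alternatingGroup, Fintype.card_fin]; rfl
    rw [h18] at h17
    have h19 : Nat.card S = 240 := by omega
    rw [h19] at h17
    norm_num at h17
  · left
    refine GH.C2SevenTop.solvable_of_dvd Nat.prime_two Nat.prime_three (a := 4) (b := 2) ?_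
    rw [h7] at h1
    have : Nat.card S = 144 := by omega
    rw [this]; norm_num
  · left
    refine GH.C2SevenTop.solvable_of_dvd Nat.prime_two Nat.prime_five (a := 4) (b := 1) ?_
    rw [h7] at h1
    have : Nat.card S = 80 := by omega
    rw [this]; norm_num
  · left
    refine GH.C2SevenTop.solvable_of_dvd Nat.prime_two Nat.prime_three (a := 4) (b := 2) ?_
    rw [h7] at h1
    have : Nat.card S = 48 := by omega
    rw [this]; norm_num
  · left
    refine GH.C2SevenTop.solvable_of_dvd Nat.prime_two Nat.prime_three (a := 4) (b := 2) ?_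
    rw [h7] at h1
    have : Nat.card S = 16 := by omega
    rw [this]; norm_num

/-- `IsHatA6` is invariant under isomorphisms -/
theorem HatIso.congr {X Z : Type*} [Group X] [Group Z] (e : X ≃* Z) (h : IsHatA6 X) : IsHatA6 Z := by
  obtain ⟨⟨h1, h2⟩, h3, ⟨f⟩⟩ := h
  have hc : (center X).map e.toMonoidHom = center Z := by
    ext z
    rw [mem_center_iff]
    constructor
    · rintro ⟨x, hx, rfl⟩ w
      obtain ⟨y, rfl⟩ := e.surjective w
      have := mem_center_iff.1 hx y
      show e y * e x = e x * e y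
      rw [← map_mul, ← map_mul, this]
    · intro hz
      refine ⟨e.symm z, ?_, e.apply_symm_apply z⟩
      rw [SetLike.mem_coe, mem_center_iff]
      intro y
      apply e.injective
      rw [map_mul, map_mul, e.apply_symm_apply]
      exact hz _
  let q : (X ⧸ center X) ≃* (Z ⧸ center Z) := QuotientGroup.congr _ _ e hc
  refine ⟨⟨?_, H5.Small.simple_of_equiv q⟩, ?_, ⟨q.symm.trans f⟩⟩
  · rw [Group.isPerfect_def] at h1 ⊢
    have h4 : (commutator X).map e.toMonoidHom = commutator Z := by
      rw [commutator_def, commutator_def, map_commutator, ← MonoidHom.range_eq_map,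
        MonoidHom.range_eq_top.2 e.surjective]
    rw [← h4, h1, ← MonoidHom.range_eq_map, MonoidHom.range_eq_top.2 e.surjective]
  · rw [← h3, ← hc]
    exact (Nat.card_congr ((center X).equivMapOfInjective _ e.injective).toEquiv).symm

/-- `π : Y → S₆` is surjective with kernel of order 3, `a` and `b` are even, centralize the kernel and
`1 ≠ ⁅a, b⁆ ∈ ker π` -/
structure Hat {Y : Type*} [Group Y] (π : Y →* Equiv.Perm (Fin 6)) (a b : Y) : Prop where
  surj : Function.Surjective π
  ker : Nat.card π.ker = 3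
  ea : π a ∈ alternatingGroup (Fin 6)
  eb : π b ∈ alternatingGroup (Fin 6)
  ca : ∀ c ∈ π.ker, a * c = c * a
  cb : ∀ c ∈ π.ker, b * c = c * b
  comm : π a * π b = π b * π a
  ne : a * b ≠ b * a

section

variable {Y : Type*} [Group Y] {π : Y →* Equiv.Perm (Fin 6)} {a b : Y} (h : Hat π a b)
include h

theorem Hat.finite : Finite Y := by
  have h1 : Finite π.ker := Nat.finite_of_card_ne_zero (by rw [h.ker]; norm_num)
  have h2 : π.ker.FiniteIndex := ⟨by
    rw [Subgroup.index_ker]
    exact Nat.card_pos.ne'⟩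
  exact (finite_iff_finite_and_finiteIndex π.ker).2 ⟨h1, h2⟩

theorem Hat.comm_mem : a * b * a⁻¹ * b⁻¹ ∈ π.ker := by
  rw [MonoidHom.mem_ker, map_mul, map_mul, map_mul, map_inv, map_inv, h.comm]
  group

theorem Hat.comm_ne : a * b * a⁻¹ * b⁻¹ ≠ 1 := by
  intro e
  apply h.ne
  calc a * b = a * b * a⁻¹ * b⁻¹ * (b * a) := by group
    _ = b * a := by rw [e, one_mul]

/-- a subgroup meeting the kernel nontrivially contains the kernel -/
theorem Hat.ker_le {S : Subgroup Y} {x : Y} (hx : x ∈ S) (hk : x ∈ π.ker) (h1 : x ≠ 1) : π.ker ≤ S := by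
  have h3 : Fact (Nat.Prime 3) := ⟨Nat.prime_three⟩
  have hp : Fact (Nat.card π.ker).Prime := ⟨by rw [h.ker]; exact Nat.prime_three⟩
  rcases (S.subgroupOf π.ker).eq_bot_or_eq_top_of_prime_card with h4 | h4
  · exfalso
    have h5 : (⟨x, hk⟩ : π.ker) ∈ S.subgroupOf π.ker := mem_subgroupOf.2 hx
    rw [h4, mem_bot] at h5
    exact h1 (congrArg Subtype.val h5)
  · exact subgroupOf_eq_top.1 h4

theorem Hat.ker_comm {c d : Y} (hc : c ∈ π.ker) (hd : d ∈ π.ker) : c * d = d * c := by
  have h3 : Fact (Nat.Prime 3) := ⟨Nat.prime_three⟩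
  have h4 : IsCyclic π.ker := isCyclic_of_prime_card h.ker
  have h5 : ∀ x y : π.ker, x * y = y * x := fun x y => by
    have := h4.isMulCommutative
    exact this.is_comm.comm x y
  exact congrArg Subtype.val (h5 ⟨c, hc⟩ ⟨d, hd⟩)

/-- a subgroup mapping onto `S₆` is everything -/
theorem Hat.eq_top {S : Subgroup Y} (hS : S.map π = ⊤) : S = ⊤ := by
  have ha : π a ∈ S.map π := by rw [hS]; exact mem_top _
  have hb : π b ∈ S.map π := by rw [hS]; exact mem_top _
  obtain ⟨a', ha', ea⟩ := ha
  obtain ⟨b', hb', eb⟩ := hb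
  have hca : a⁻¹ * a' ∈ π.ker := by rw [MonoidHom.mem_ker, map_mul, map_inv, ea, inv_mul_cancel]
  have hcb : b⁻¹ * b' ∈ π.ker := by rw [MonoidHom.mem_ker, map_mul, map_inv, eb, inv_mul_cancel]
  set c := a⁻¹ * a' with hc
  set d := b⁻¹ * b' with hd
  have e1 : a' = a * c := by rw [hc]; group
  have e2 : b' = b * d := by rw [hd]; group
  have hac := h.ca c hca
  have had := h.ca d hcb
  have hbc := h.cb c hca
  have hbd := h.cb d hcb
  have hcd := h.ker_comm hca hcb
  have e3 : a' * b' = (a * b) * (c * d) := by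
    rw [e1, e2]
    calc a * c * (b * d) = a * (c * b) * d := by group
      _ = a * (b * c) * d := by rw [hbc]
      _ = _ := by group
  have e4 : b' * a' = (b * a) * (c * d) := by
    rw [e1, e2]
    calc b * d * (a * c) = b * (d * a) * c := by group
      _ = b * (a * d) * c := by rw [had]
      _ = (b * a) * (d * c) := by group
      _ = _ := by rw [hcd]
  have e5 : a' * b' * a'⁻¹ * b'⁻¹ = a * b * a⁻¹ * b⁻¹ := by
    calc a' * b' * a'⁻¹ * b'⁻¹ = (a' * b') * (b' * a')⁻¹ := by group
      _ = a * b * (c * d) * (b * a * (c * d))⁻¹ := by rw [e3, e4]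
      _ = _ := by group
  have h1 : a' * b' * a'⁻¹ * b'⁻¹ ∈ S := mul_mem (mul_mem (mul_mem ha' hb') (inv_mem ha')) (inv_mem hb')
  rw [e5] at h1
  have hk := h.ker_le h1 h.comm_mem h.comm_ne
  rw [eq_top_iff]
  intro y _
  have h2 : π y ∈ S.map π := by rw [hS]; exact mem_top _
  obtain ⟨s, hs, e⟩ := h2
  have h3 : s⁻¹ * y ∈ π.ker := by rw [MonoidHom.mem_ker, map_mul, map_inv, e, inv_mul_cancel]
  have h4 : y = s * (s⁻¹ * y) := by group
  rw [h4]
  exact mul_mem hs (hk h3)

theorem Hat.odd {S : Subgroup Y} (hS : Odd S.index) : Group.IsSolvable S ∨ S = ⊤ := by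
  have := h.finite
  have h1 : Odd (S.map π).index := by
    rw [← Nat.not_even_iff_odd, even_iff_two_dvd] at hS ⊢
    exact fun h2 => hS (h2.trans (index_map_dvd _ h.surj))
  rcases odd_index h1 with h2 | h2
  · left
    have h3 : Group.IsSolvable π.ker := by
      refine Group.isSolvable_of_comm fun x y => ?_
      exact Subtype.ext (h.ker_comm x.2 y.2)
    let f : S →* S.map π := (π.comp S.subtype).codRestrict _ (fun x => ⟨x, x.2, rfl⟩)
    let g : f.ker →* π.ker := (S.subtype.comp f.ker.subtype).codRestrict π.ker (fun x => by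
      have := congrArg Subtype.val (MonoidHom.mem_ker.1 x.2)
      exact MonoidHom.mem_ker.2 this)
    have hg : Function.Injective g := by
      intro x y hxy
      have := congrArg Subtype.val hxy
      exact Subtype.ext (Subtype.ext this)
    have h4 : Group.IsSolvable f.ker := Group.isSolvable_of_isSolvable_injective hg
    exact Group.isSolvable_of_ker_le_range f.ker.subtype f (by rw [range_subtype])
  · right; exact h.eq_top h2

/-- the preimage of `A₆` -/
def NN (π : Y →* Equiv.Perm (Fin 6)) : Subgroup Y := (alternatingGroup (Fin 6)).comap π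

omit h in
theorem mem_NN {x : Y} : x ∈ NN π ↔ π x ∈ alternatingGroup (Fin 6) := Iff.rfl

omit h in
instance NN_normal : (NN π).Normal := by
  unfold NN
  infer_instance

omit h in
theorem ker_le_NN : π.ker ≤ NN π := by
  intro x hx
  rw [mem_NN, MonoidHom.mem_ker.1 hx]
  exact one_mem _

theorem Hat.map_NN : (NN π).map π = alternatingGroup (Fin 6) := map_comap_eq_self_of_surjective h.surj _

theorem Hat.perfect : ⁅NN π, NN π⁆ = NN π := by
  apply le_antisymm (commutator_le_right _ _)
  have h1 : a * b * a⁻¹ * b⁻¹ ∈ ⁅NN π, NN π⁆ := commutator_mem_commutator (mem_NN.2 h.ea) (mem_NN.2 h.eb)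
  have h2 := h.ker_le h1 h.comm_mem h.comm_ne
  intro x hx
  have h3 : π x ∈ (⁅NN π, NN π⁆).map π := by
    rw [map_commutator, h.map_NN, perfect_alt6]
    exact hx
  obtain ⟨y, hy, e⟩ := h3
  have h4 : y⁻¹ * x ∈ π.ker := by rw [MonoidHom.mem_ker, map_mul, map_inv, e, inv_mul_cancel]
  have h5 : x = y * (y⁻¹ * x) := by group
  rw [h5]
  exact mul_mem hy (h2 h4)

theorem Hat.central {x c : Y} (hx : x ∈ NN π) (hc : c ∈ π.ker) : x * c = c * x := by
  have := h.finite
  have h3 : Fact (Nat.Prime 3) := ⟨Nat.prime_three⟩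
  have h4 : IsCyclic π.ker := isCyclic_of_prime_card h.ker
  let f : Y →* MulAut π.ker := MulAut.conjNormal
  have hs : Group.IsSolvable (MulAut π.ker) := by
    refine Group.isSolvable_of_comm fun u v => ?_
    apply (IsCyclic.mulAutMulEquiv π.ker).injective
    rw [map_mul, map_mul, mul_comm]
  have h5 := H1.Tight.map_eq_bot_of_perfect f h.perfect
  rw [Subgroup.map_eq_bot_iff] at h5
  have h6 := MonoidHom.mem_ker.1 (h5 hx)
  have h7 := congrArg (fun α : MulAut π.ker => ((α ⟨c, hc⟩ : π.ker) : Y)) h6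
  have h8 : x * c * x⁻¹ = c := by
    have h9 := MulAut.conjNormal_apply (H := π.ker) x ⟨c, hc⟩
    rw [← h9]; exact h7
  calc x * c = x * c * x⁻¹ * x := by group
    _ = c * x := by rw [h8]

/-- the homomorphism onto `A₆` -/
def qq (π : Y →* Equiv.Perm (Fin 6)) : NN π →* alternatingGroup (Fin 6) :=
  (π.comp (NN π).subtype).codRestrict _ (fun x => x.2)

theorem Hat.qq_surj : Function.Surjective (qq π) := by
  rintro ⟨y, hy⟩
  obtain ⟨x, rfl⟩ := h.surj y
  exact ⟨⟨x, hy⟩, rfl⟩

theorem Hat.qq_ker : (qq π).ker = center (NN π) := by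
  ext ⟨x, hx⟩
  rw [MonoidHom.mem_ker, mem_center_iff]
  constructor
  · intro e ⟨y, hy⟩
    have e1 : π x = 1 := congrArg Subtype.val e
    exact Subtype.ext (h.central hy (MonoidHom.mem_ker.2 e1))
  · intro hc
    have h1 : qq π ⟨x, hx⟩ ∈ center (alternatingGroup (Fin 6)) := by
      rw [mem_center_iff]
      intro w
      obtain ⟨v, rfl⟩ := h.qq_surj w
      rw [← map_mul, ← map_mul, hc v]
    have h2 : center (alternatingGroup (Fin 6)) = ⊥ := by
      rcases simple_alt6.eq_bot_or_eq_top_of_normal (center (alternatingGroup (Fin 6))) inferInstance with h3 | h3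
      · exact h3
      · exfalso
        apply not_solvable_alt6
        refine Group.isSolvable_of_comm fun u v => ?_
        have h4 : u ∈ center (alternatingGroup (Fin 6)) := by rw [h3]; exact mem_top u
        exact (mem_center_iff.1 h4 v).symm
    rw [h2, mem_bot] at h1
    exact h1

theorem Hat.center_card : Nat.card (center (NN π)) = 3 := by
  rw [← h.qq_ker, ← h.ker]
  apply Nat.card_congr
  refine ⟨fun x => ⟨x.1.1, MonoidHom.mem_ker.2 (congrArg Subtype.val (MonoidHom.mem_ker.1 x.2))⟩,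
    fun x => ⟨⟨x.1, ker_le_NN x.2⟩, MonoidHom.mem_ker.2 (Subtype.ext (MonoidHom.mem_ker.1 x.2))⟩, ?_, ?_⟩
  · intro x; rfl
  · intro x; rfl

theorem Hat.quot : Nonempty (NN π ⧸ center (NN π) ≃* alternatingGroup (Fin 6)) :=
  ⟨(QuotientGroup.quotientMulEquivOfEq h.qq_ker.symm).trans
    (QuotientGroup.quotientKerEquivOfSurjective (qq π) h.qq_surj)⟩

theorem Hat.hatA6 : IsHatA6 (NN π) := by
  refine ⟨⟨?_, ?_⟩, h.center_card, h.quot⟩
  · rw [Group.isPerfect_def, commutator_def]
    apply map_injective (NN π).subtype_injective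
    rw [map_commutator, ← MonoidHom.range_eq_map, range_subtype]
    exact h.perfect
  · obtain ⟨e⟩ := h.quot
    exact H5.Small.simple_of_equiv e.symm

theorem Hat.pCore : pCore 2 (NN π) = ⊥ := by
  have hfin := h.finite
  have h2 : Fact (Nat.Prime 2) := ⟨Nat.prime_two⟩
  have h1 : (Cfsg.pCore 2 (NN π)).map (qq π) ≤ Cfsg.pCore 2 (alternatingGroup (Fin 6)) :=
    Cfsg.Agent.Lib.Cores.le_pCore ((Cfsg.Agent.Lib.Cores.pCore_normal 2).map _ h.qq_surj)
      ((Cfsg.Agent.Lib.Cores.pCore_isPGroup 2).map _)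
  rw [H5.Small.pCore_eq_bot_of_simple not_solvable_alt6, le_bot_iff, Subgroup.map_eq_bot_iff, h.qq_ker] at h1
  have h3 := Cfsg.Agent.Lib.Cores.pCore_isPGroup (G := NN π) 2
  obtain ⟨n, hn⟩ := IsPGroup.iff_card.1 h3
  have h4 := card_dvd_of_le h1
  rw [hn, h.center_card] at h4
  have h5 : n = 0 := by
    by_contra h6
    have h7 : 2 ∣ 2 ^ n := dvd_pow_self 2 h6
    have h8 := h7.trans h4
    norm_num at h8
  rw [h5, pow_zero] at hn
  exact Subgroup.card_eq_one.1 hn

theorem Hat.tame : H1.Tight.Tame (NN π) := by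
  apply H1.Tight.Tame.of_quasisimple h.hatA6.1
  let f : Y →* ℤˣ := Equiv.Perm.sign.comp π
  have hf : NN π = f.ker := by
    ext x
    rw [mem_NN, Equiv.Perm.mem_alternatingGroup, MonoidHom.mem_ker]
    rfl
  let e : (Y ⧸ NN π) ≃* f.range :=
    (QuotientGroup.quotientMulEquivOfEq hf).trans (QuotientGroup.quotientKerEquivRange f)
  exact Group.isSolvable_of_isSolvable_injective (f := e.toMonoidHom) e.injective

/-- **The members of `ℒ(G, T)` in `M`**, if `M` maps onto `Y` with kernel a 2-group. -/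
theorem Hat.row {G : Type*} [Group G] [Finite G] (T : Sylow 2 G) {L M : Subgroup G} (hL : L ∈ calL (T : Subgroup G))
    (hTM : (T : Subgroup G) ≤ M) (hLM : L ≤ M) (ψ : M →* Y) (hψ : Function.Surjective ψ) (hker : IsPGroup 2 ψ.ker) :
    L ⊔ T ≤ normalizer (L : Set G) ∧ IsHatA6 (L ⧸ Cfsg.pCore 2 L) ∧
      L.subgroupOf (L ⊔ T) = perfectCore ↥(L ⊔ T) := by
  have hfin := h.finite
  obtain ⟨h1, ⟨e⟩, h3⟩ := H1.Tight.calL_of_odd T hL hTM hLM ψ hψ hker h.tame h.pCore (by
    intro Q0 hQ
    rcases h.odd hQ with h4 | h4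
    · exact Or.inl h4
    · right; rw [h4]; exact le_top)
  exact ⟨h1, HatIso.congr e.symm h.hatA6, h3⟩

end

end Cfsg.Agent.H6.HatSix
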