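import Cfsg.Agent.H6.NoL
import Cfsg.Agent.QTUnique.Base

/-!
# Minimal 2-local type subgroups outside a maximal 2-local over a Sylow 2-subgroup (S1846)
-/

set_option autoImplicit false

namespace Cfsg.Agent.H6.MinH

open Subgroup Cfsg Cfsg.Agent.H4.Lf Cfsg.Agent.QTUniq.Local

universe u

variable {G : Type u} [Group G]

/-- a subgroup between a Sylow 2-subgroup and `H` has a nontrivial 2-core if `H` has one -/
theorem pCore_ne_bot [Finite G] (T : Sylow 2 G) {H : Subgroup G} (hT : (T : Subgroup G) ≤ H) (hH : pCore 2 ↥H ≠ ⊥)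
    (K : Subgroup ↥H) (hK : (T : Subgroup G).subgroupOf H ≤ K) : pCore 2 ↥(K.map H.subtype) ≠ ⊥ := by
  have h2 : Fact (Nat.Prime 2) := ⟨Nat.prime_two⟩
  have h1 : pCore 2 ↥H ≤ K := (Cfsg.Agent.Lib.Cores.pCore_le_sylow (T.subtype hT)).trans (by
    rw [Sylow.coe_subtype]; exact hK)
  set R : Subgroup G := (pCore 2 ↥H).map H.subtype with hR
  have hRK : R ≤ K.map H.subtype := map_mono h1
  have hKH : K.map H.subtype ≤ H := map_subtype_le K
  have hn : K.map H.subtype ≤ normalizer (R : Set G) := hKH.trans (le_normalizer_map_pCore 2 H)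
  intro h
  have h3 := Cfsg.Agent.QTUniq.Local.le_map_pCore hRK (map_pCore_isPGroup 2 H) hn
  rw [h, Subgroup.map_bot, le_bot_iff] at h3
  exact hH ((map_eq_bot_iff_of_injective _ H.subtype_injective).1 h3)

/-- the formal part of S1846 -/
theorem formal [Finite G] (T : Sylow 2 G) {M : Subgroup G} (hTM : (T : Subgroup G) ≤ M) {H : Subgroup G}
    (hH : H ∈ calHMin (T : Subgroup G) M) :
    IsCoatom ((H ⊓ M).subgroupOf H) ∧
      ∀ K : Subgroup ↥H, IsCoatom K → (T : Subgroup G).subgroupOf H ≤ K → K = (H ⊓ M).subgroupOf H := by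
  obtain ⟨⟨⟨hHc, hTH⟩, hHM⟩, hmin⟩ := hH
  have hne : (H ⊓ M).subgroupOf H ≠ ⊤ := by
    intro h
    rw [subgroupOf_eq_top] at h
    exact hHM (h.trans inf_le_right)
  have key : ∀ K : Subgroup ↥H, IsCoatom K → (T : Subgroup G).subgroupOf H ≤ K → K = (H ⊓ M).subgroupOf H := by
    intro K hK hTK
    have h1 : K.map H.subtype ≤ M := by
      by_contra hcon
      have hTK' : (T : Subgroup G) ≤ K.map H.subtype := fun x hx => ⟨⟨x, hTH hx⟩, hTK hx, rfl⟩
      have h3 := hmin (K.map H.subtype) ⟨⟨pCore_ne_bot T hTH hHc K hTK, hTK'⟩, hcon⟩ (map_subtype_le K)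
      apply hK.1
      rw [eq_top_iff]
      intro x _
      have : (x : G) ∈ K.map H.subtype := by rw [h3]; exact x.2
      obtain ⟨y, hy, hyx⟩ := this
      rwa [← Subtype.ext hyx]
    have h3 : K ≤ (H ⊓ M).subgroupOf H := by
      intro x hx
      exact mem_subgroupOf.2 (mem_inf.2 ⟨x.2, h1 ⟨x, hx, rfl⟩⟩)
    rcases hK.le_iff.1 h3 with h4 | h4
    · exact absurd h4 hne
    · exact h4.symm
  refine ⟨?_, key⟩
  obtain h1 | ⟨K, hK, hle⟩ := eq_top_or_exists_le_coatom ((H ⊓ M).subgroupOf H)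
  · exact absurd h1 hne
  · have hTK : (T : Subgroup G).subgroupOf H ≤ K := by
      refine le_trans ?_ hle
      intro x hx
      exact mem_subgroupOf.2 (mem_inf.2 ⟨x.2, hTM hx⟩)
    rw [← key K hK hTK]
    exact hK

/-- `T` normalizes `⟨L^T⟩` -/
theorem le_normalizer_conjClosure (L T : Subgroup G) : T ≤ normalizer (conjClosure L T : Set G) := by
  have key : ∀ x ∈ T, (conjClosure L T).map (MulAut.conj x).toMonoidHom ≤ conjClosure L T := by
    intro x hx
    unfold conjClosure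
    rw [Subgroup.map_iSup]
    refine iSup_le fun t => ?_
    rw [Subgroup.map_map]
    have e : (MulAut.conj x).toMonoidHom.comp (MulAut.conj (t : G)).toMonoidHom =
        (MulAut.conj ((⟨x, hx⟩ * t : ↥T) : G)).toMonoidHom := by
      ext y
      simp
    rw [e]
    exact le_iSup (fun t : ↥T => L.map (MulAut.conj (t : G)).toMonoidHom) (⟨x, hx⟩ * t)
  intro x hx
  rw [mem_normalizer_iff]
  intro y
  constructor
  · intro hy
    exact key x hx ⟨y, hy, rfl⟩
  · intro hy
    obtain h1 := key x⁻¹ (inv_mem hx) ⟨_, hy, rfl⟩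
    have e : (MulAut.conj x⁻¹).toMonoidHom (x * y * x⁻¹) = y := by
      change x⁻¹ * (x * y * x⁻¹) * x⁻¹⁻¹ = y
      group
    rwa [e] at h1

/-- the rows of S1819 satisfy `TwoSolv` -/
theorem twoSolv_rows [Finite G] (hFT : ∀ (X : Type) [Group X] [Finite X], Odd (Nat.card X) → Group.IsSolvable X)
    (hFT' : ∀ (X : Type u) [Group X] [Finite X], Odd (Nat.card X) → Group.IsSolvable X)
    (h : Cfsg.IsBenderGroup G ∨
      (∃ (F : Type) (_ : Field F) (_ : Fintype F), Cfsg.IsTwoPowerNeighbourPrime (Fintype.card F) ∧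
          7 < Fintype.card F ∧ Nonempty (G ≃* Matrix.ProjectiveSpecialLinearGroup (Fin 2) F)) ∨
      (∃ (F : Type) (_ : Field F) (_ : Fintype F), Fintype.card F = 3 ∧
          Nonempty (G ≃* Matrix.ProjectiveSpecialLinearGroup (Fin 3) F)) ∨
      Cfsg.Spor.IsoM11 G) : NoL.TwoSolv G := by
  rcases h with h | ⟨F, _, _, hp, h7, ⟨e⟩⟩ | ⟨F, _, _, hF, ⟨e⟩⟩ | h
  · exact NoL.bender hFT hFT' h
  · exact NoL.l2 hp h7 e
  · exact NoL.l33 hF e
  · exact NoL.m11 h

/-- the existence of two maximal 2-locals -/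
theorem two [Finite G] (T : Sylow 2 G) {L M : Subgroup G} (hL : L ∈ calL (T : Subgroup G))
    (hM : M ∈ maxTwoLocalsContaining (T : Subgroup G))
    (h : maxTwoLocalsContaining (T : Subgroup G) = {M} → NoL.TwoSolv G) :
    ∃ M₁ M₂ : Subgroup G, M₁ ∈ Cfsg.maxTwoLocalsContaining (T : Subgroup G) ∧
      M₂ ∈ Cfsg.maxTwoLocalsContaining (T : Subgroup G) ∧ M₁ ≠ M₂ := by
  by_contra hcon
  push Not at hcon
  have h1 : maxTwoLocalsContaining (T : Subgroup G) = {M} := by
    ext N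
    rw [Set.mem_singleton_iff]
    constructor
    · intro hN
      exact hcon N M hN hM
    · rintro rfl
      exact hM
  exact ne_bot hL (h h1 (L ⊔ (T : Subgroup G)) L (oTwo_ne hL) le_sup_left (perfect hL))

end Cfsg.Agent.H6.MinH
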