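import Cfsg.Agent.H4.Small
import Cfsg.Agent.OddHalf.Small.RankOne
import Cfsg.Agent.OddHalf.Small.L2
import Cfsg.Agent.OddHalf.Small.L33
import Cfsg.Agent.SporadicA.M11Facts
import Cfsg.Agent.Cit.Eleven
import Cfsg.Agent.S0243
import Cfsg.Agent.TwoUniq.PSLRank
import Cfsg.Prelude.Def_Quasithin

/-!
# Groups in which all subgroups with a nontrivial 2-core are solvable

`TwoSolv G`: the perfect subgroups of the subgroups `H` with `O_2(H) ≠ 1` are trivial.  This holds for the Bender groups,
`L₂(p)` (`p` next to a power of 2), `L₃(3)` and `M₁₁`.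
-/

set_option autoImplicit false

namespace Cfsg.Agent.H6.NoL

open Subgroup Cfsg Cfsg.Agent.H4.Lf Cfsg.Agent.H4.Small Cfsg.Agent.QTUniq.Local

universe u v

/-- the perfect subgroups of the subgroups with a nontrivial 2-core are trivial -/
def TwoSolv (G : Type*) [Group G] : Prop :=
  ∀ H L : Subgroup G, pCore 2 ↥H ≠ ⊥ → L ≤ H → ⁅L, L⁆ = L → L = ⊥

theorem TwoSolv.congr {G : Type u} {K : Type v} [Group G] [Group K] (e : G ≃* K) (h : TwoSolv K) : TwoSolv G := by
  intro H L hH hLH hL
  have h1 : pCore 2 ↥(H.map e.toMonoidHom) ≠ ⊥ := by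
    intro h2
    apply hH
    have h3 := Cfsg.Agent.Lib.Cores.map_equiv_pCore (e.subgroupMap H) 2
    have h4 : pCore 2 ↥(H.map e.toMonoidHom) = pCore 2 ↥(H.map (e : G →* K)) := rfl
    rw [h4] at h2
    rw [h2] at h3
    exact (map_eq_bot_iff_of_injective _ (e.subgroupMap H).injective).1 h3
  have h2 := h (H.map e.toMonoidHom) (L.map e.toMonoidHom) h1 (map_mono hLH) (by rw [← map_commutator, hL])
  exact (map_eq_bot_iff_of_injective _ e.injective).1 h2

variable {G : Type u} [Group G]

/-- a nontrivial 2-group has a central element of order 2 -/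
theorem exists_central [Finite G] {R : Subgroup G} (hR : IsPGroup 2 ↥R) (hR1 : R ≠ ⊥) :
    ∃ u ∈ R, orderOf u = 2 ∧ ∀ r ∈ R, r * u = u * r := by
  have h2 : Fact (Nat.Prime 2) := ⟨Nat.prime_two⟩
  have hn : Nontrivial ↥R := (Subgroup.nontrivial_iff_ne_bot R).2 hR1
  have hc := hR.center_nontrivial
  have hp : IsPGroup 2 ↥(center ↥R) := hR.to_subgroup _
  obtain ⟨n, hn0, hn1⟩ := hp.nontrivial_iff_card.1 hc
  obtain ⟨x, hx⟩ := exists_prime_orderOf_dvd_card' (G := ↥(center ↥R)) 2 (by
    rw [hn1]; exact dvd_pow_self 2 hn0.ne')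
  refine ⟨((x : ↥R) : G), (x : ↥R).2, ?_, ?_⟩
  · rw [Subgroup.orderOf_coe, Subgroup.orderOf_coe, hx]
  · intro r hr
    exact congrArg Subtype.val (mem_center_iff.1 x.2 ⟨r, hr⟩)

/-- criterion: solvable centralizers of involutions and no nontrivial actions on elementary abelian 2-subgroups -/
theorem of_acts [Finite G] (hc : ∀ z : G, orderOf z = 2 → Group.IsSolvable ↥(centralizer ({z} : Set G)))
    (ha : ∀ L U : Subgroup G, Acts L U → False) : TwoSolv G := by
  intro H L hH hLH hL
  set R : Subgroup G := (pCore 2 ↥H).map H.subtype with hR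
  have hRp : IsPGroup 2 ↥R := map_pCore_isPGroup 2 H
  have hR1 : R ≠ ⊥ := fun h => hH ((map_eq_bot_iff_of_injective _ H.subtype_injective).1 h)
  obtain ⟨u, huR, hu2, huc⟩ := exists_central hRp hR1
  have huu : u * u = 1 := by rw [← pow_two, ← hu2]; exact pow_orderOf_eq_one u
  have huU : u ∈ omegaOne 2 (R ⊓ centralizer (R : Set G)) := mem_omega.2 ⟨huR, huc, huu⟩
  have hHU : H ≤ normalizer (omegaOne 2 (R ⊓ centralizer (R : Set G)) : Set G) :=
    (le_normalizer_map_pCore 2 H).trans (normalizer_le_omega R)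
  by_cases hLU : L ≤ centralizer (omegaOne 2 (R ⊓ centralizer (R : Set G)) : Set G)
  · have h1 : L ≤ centralizer ({u} : Set G) := by
      intro x hx
      rw [mem_centralizer_singleton_iff]
      exact (mem_centralizer_iff.1 (hLU hx) u huU).symm
    have h3 := hc u hu2
    have h4 : Group.IsSolvable ↥L := Group.isSolvable_of_isSolvable_injective (inclusion_injective h1)
    exact Cfsg.Agent.TwoFusion.PerfCore.eq_bot_of_perfect_of_solvable hL h4
  · refine (ha L _ ⟨hL, hLH.trans hHU, ?_, ?_, hLU⟩).elim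
    · intro a ha b hb
      exact (mem_omega.1 hb).2.1 a (mem_omega.1 ha).1
    · intro a ha
      exact (mem_omega.1 ha).2.2

/-- 2-rank at most 2 -/
theorem of_rank [Finite G] (hc : ∀ z : G, orderOf z = 2 → Group.IsSolvable ↥(centralizer ({z} : Set G)))
    (h : PRankLE 2 2 G) : TwoSolv G := by
  refine of_acts hc fun L U hA => ?_
  have h1 := h U ⟨⟨fun a b => Subtype.ext (hA.comm a a.2 b b.2)⟩⟩ (fun a ha => by
    rw [pow_two]; exact hA.sq a ha)
  have h2 := hA.eight_le
  omega

/-- `|U| |L : C_L(U)|` divides `|G|` -/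
theorem mul_dvd' [Finite G] {L U : Subgroup G} (h : Acts L U) :
    Nat.card ↥U * (centralizer (U : Set G)).relIndex L ∣ Nat.card G := by
  have hn : L ⊔ U ≤ normalizer (U : Set G) := sup_le h.norm le_normalizer
  have h1 : U.subgroupOf (L ⊔ U) ≤ (centralizer (U : Set G)).subgroupOf (L ⊔ U) := by
    intro x hx
    rw [mem_subgroupOf, mem_centralizer_iff]
    intro y hy
    exact h.comm y hy x hx
  have h2 := (centralizer (U : Set G)).subgroupOf (L ⊔ U) |>.card_mul_index
  have h3 : Nat.card ↥U ∣ Nat.card ↥((centralizer (U : Set G)).subgroupOf (L ⊔ U)) := by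
    have h4 := Subgroup.card_dvd_of_le h1
    rwa [Nat.card_congr (Subgroup.subgroupOfEquivOfLe (le_sup_right : U ≤ L ⊔ U)).toEquiv] at h4
  have h5 : (centralizer (U : Set G)).relIndex L ∣ (centralizer (U : Set G)).relIndex (L ⊔ U) := by
    rw [relIndex_eq h.norm, relIndex_eq hn]
    refine card_dvd_of_le ?_
    rintro _ ⟨x, rfl⟩
    exact ⟨⟨x, mem_sup_left x.2⟩, rfl⟩
  refine (mul_dvd_mul h3 h5).trans ?_
  change _ * ((centralizer (U : Set G)).subgroupOf (L ⊔ U)).index ∣ _
  rw [h2]
  exact card_subgroup_dvd_card _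

/-- `|G|₂ = 16` -/
theorem of_card_sixteen [Finite G] (hc : ∀ z : G, orderOf z = 2 → Group.IsSolvable ↥(centralizer ({z} : Set G)))
    {m p q a b : ℕ} (hG : Nat.card G = 16 * m) (hm : Odd m)
    (hp : p.Prime) (hq : q.Prime) (h7 : ¬ 7 ∣ m) (h : Nat.gcd m 20160 ∣ p ^ a * q ^ b) : TwoSolv G := by
  refine of_acts hc fun L U hA => ?_
  have h3 := mul_dvd' hA
  have h2 := hA.eight_le
  obtain ⟨n, hn⟩ := hA.exists_card
  rw [hn] at h2 h3
  have hn3 : 3 ≤ n := by
    by_contra h4
    have : n ≤ 2 := by omega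
    have h5 : 2 ^ n ≤ 2 ^ 2 := Nat.pow_le_pow_right (by norm_num) this
    omega
  have hn4 : n ≤ 4 := by
    by_contra h4
    have h5 : 2 ^ 5 ∣ 16 * m := by
      rw [← hG]
      exact ((Nat.pow_dvd_pow 2 (by omega)).trans (Dvd.intro _ rfl)).trans h3
    have h6 : 2 ∣ m := by
      rw [show (2 : ℕ) ^ 5 = 16 * 2 by norm_num] at h5
      exact (Nat.mul_dvd_mul_iff_left (by norm_num)).1 h5
    exact (Nat.not_even_iff_odd.2 hm) (even_iff_two_dvd.2 h6)
  obtain rfl | rfl : n = 3 ∨ n = 4 := by omega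
  · rw [hA.eq_of_eight hn, hG] at h3
    have h4 : 7 ∣ 16 * m := (by norm_num : 7 ∣ 2 ^ 3 * 168).trans h3
    rcases (Nat.Prime.dvd_mul (by norm_num)).1 h4 with h5 | h5
    · norm_num at h5
    · exact h7 h5
  · have h4 := hA.dvd_of_sixteen hn
    rw [hG] at h3
    have h5 : (centralizer (U : Set G)).relIndex L ∣ m :=
      (Nat.mul_dvd_mul_iff_left (by norm_num : 0 < 16)).1 h3
    exact hA.not_dvd hp hq ((Nat.dvd_gcd h5 h4).trans h)

/-! ### odd quotients -/

/-- a subgroup with a normal 2-subgroup of odd index is solvable -/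
theorem solvable_of_odd (hFT : ∀ (X : Type u) [Group X] [Finite X], Odd (Nat.card X) → Group.IsSolvable X)
    {S : Type u} [Group S] [Finite S] (Q : Subgroup S) [Q.Normal] (hQ : IsPGroup 2 ↥Q) (ho : Odd Q.index) :
    Group.IsSolvable S := by
  have h2 : Fact (Nat.Prime 2) := ⟨Nat.prime_two⟩
  refine (Group.isSolvable_iff_subgroup_quotient Q).2 ⟨?_, ?_⟩
  · have := hQ.isNilpotent
    infer_instance
  · refine hFT (S ⧸ Q) ?_
    rwa [← Subgroup.index_eq_card]

/-- criterion: the centralizers of the involutions are elementary abelian -/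
theorem of_elementary [Finite G] (hFT : ∀ (X : Type u) [Group X] [Finite X], Odd (Nat.card X) → Group.IsSolvable X)
    (hc : ∀ z y : G, orderOf z = 2 → z * y = y * z → y * y = 1) : TwoSolv G := by
  have h2 : Fact (Nat.Prime 2) := ⟨Nat.prime_two⟩
  intro H L hH hLH hL
  set R : Subgroup G := (pCore 2 ↥H).map H.subtype with hR
  have hRp : IsPGroup 2 ↥R := map_pCore_isPGroup 2 H
  have hR1 : R ≠ ⊥ := fun h => hH ((map_eq_bot_iff_of_injective _ H.subtype_injective).1 h)
  obtain ⟨u, huR, hu2, huc⟩ := exists_central hRp hR1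
  set T : Subgroup G := centralizer ({u} : Set G) with hT
  have hsq : ∀ y ∈ T, y * y = 1 := fun y hy => hc u y hu2 (mem_centralizer_singleton_iff.1 hy).symm
  have hinv : ∀ a b : G, a * a = 1 → b * b = 1 → a * b * (a * b) = 1 → a * b = b * a := by
    intro a b ha hb hab
    have e1 : a⁻¹ = a := inv_eq_of_mul_eq_one_right ha
    have e2 : b⁻¹ = b := inv_eq_of_mul_eq_one_right hb
    calc a * b = (a * b)⁻¹ := (inv_eq_of_mul_eq_one_right hab).symm
      _ = b * a := by rw [mul_inv_rev, e1, e2]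
  have ho : ∀ y : G, y * y = 1 → y ≠ 1 → orderOf y = 2 := fun y h1 h3 =>
    orderOf_eq_prime (by rw [pow_two]; exact h1) h3
  have hTC : ∀ v ∈ T, v ≠ 1 → centralizer ({v} : Set G) = T := by
    intro v hv hv1
    have hvo := ho v (hsq v hv) hv1
    have hle : T ≤ centralizer ({v} : Set G) := by
      intro y hy
      rw [mem_centralizer_singleton_iff]
      exact hinv y v (hsq y hy) (hsq v hv) (hsq _ (mul_mem hy hv))
    refine le_antisymm ?_ hle
    intro y hy
    have huT : u ∈ centralizer ({v} : Set G) := hle (mem_centralizer_singleton_iff.2 rfl)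
    have hs : ∀ w ∈ centralizer ({v} : Set G), w * w = 1 := fun w hw =>
      hc v w hvo (mem_centralizer_singleton_iff.1 hw).symm
    rw [hT, mem_centralizer_singleton_iff]
    exact hinv y u (hs y hy) (hs u huT) (hs _ (mul_mem hy huT))
  have hRT : R ≤ T := fun r hr => mem_centralizer_singleton_iff.2 (huc r hr)
  have hHR : H ≤ normalizer (R : Set G) := le_normalizer_map_pCore 2 H
  have hHT : H ≤ normalizer (T : Set G) := by
    intro h hh
    have h1 : h * u * h⁻¹ ∈ T := hRT ((mem_normalizer_iff.1 (hHR hh) u).1 huR)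
    have h3 : h * u * h⁻¹ ≠ 1 := by
      intro h4
      have : u = 1 := by
        have e : u = h⁻¹ * (h * u * h⁻¹) * h := by group
        rw [e, h4]; group
      rw [this, orderOf_one] at hu2
      omega
    have h4 := hTC _ h1 h3
    rw [mem_normalizer_iff]
    intro y
    constructor
    · intro hy
      rw [← h4, mem_centralizer_singleton_iff]
      have h5 : y * u = u * y := mem_centralizer_singleton_iff.1 hy
      calc h * y * h⁻¹ * (h * u * h⁻¹) = h * (y * u) * h⁻¹ := by group
        _ = h * u * h⁻¹ * (h * y * h⁻¹) := by rw [h5]; group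
    · intro hy
      rw [← h4, mem_centralizer_singleton_iff] at hy
      rw [hT, mem_centralizer_singleton_iff]
      calc y * u = h⁻¹ * (h * y * h⁻¹ * (h * u * h⁻¹)) * h := by group
        _ = h⁻¹ * (h * u * h⁻¹ * (h * y * h⁻¹)) * h := by rw [hy]
        _ = u * y := by group
  -- `T` is a Sylow 2-subgroup of its normalizer
  have hTp : IsPGroup 2 ↥T := fun x => ⟨1, Subtype.ext (by
    show (x : G) ^ 2 ^ 1 = 1
    rw [pow_one, pow_two]; exact hsq x x.2)⟩
  have huT : u ∈ T := mem_centralizer_singleton_iff.2 rfl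
  have hTn : (T.subgroupOf (normalizer (T : Set G))).Normal := normal_subgroupOf_iff_le_normalizer le_normalizer |>.2 le_rfl
  have hTSp : IsPGroup 2 ↥(T.subgroupOf (normalizer (T : Set G))) := hTp.comap_subtype
  obtain ⟨P, hP⟩ := hTSp.exists_le_sylow
  have hPT : (P : Subgroup ↥(normalizer (T : Set G))) = T.subgroupOf (normalizer (T : Set G)) := by
    refine le_antisymm ?_ hP
    have hPG : IsPGroup 2 ↥((P : Subgroup ↥(normalizer (T : Set G))).map (normalizer (T : Set G)).subtype) := P.2.map _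
    have hu' : u ∈ (P : Subgroup ↥(normalizer (T : Set G))).map (normalizer (T : Set G)).subtype :=
      ⟨⟨u, le_normalizer huT⟩, hP (mem_subgroupOf.2 huT), rfl⟩
    have hP1 : (P : Subgroup ↥(normalizer (T : Set G))).map (normalizer (T : Set G)).subtype ≠ ⊥ := by
      intro h
      rw [h, mem_bot] at hu'
      rw [hu', orderOf_one] at hu2
      omega
    obtain ⟨v, hv, hv2, hvc⟩ := exists_central hPG hP1
    have hvT : v ∈ T := by
      rw [hT, mem_centralizer_singleton_iff]
      exact (hvc u hu').symm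
    have hv1 : v ≠ 1 := by
      rintro rfl
      rw [orderOf_one] at hv2
      omega
    intro x hx
    rw [mem_subgroupOf]
    refine (hTC v hvT hv1).le ?_
    rw [mem_centralizer_singleton_iff]
    exact hvc x ⟨x, hx, rfl⟩
  have hodd : Odd (T.subgroupOf (normalizer (T : Set G))).index := by
    rw [← hPT, ← Nat.not_even_iff_odd, even_iff_two_dvd]
    exact P.not_dvd_index
  have hs := solvable_of_odd hFT _ hTSp hodd
  have h4 : Group.IsSolvable ↥L := Group.isSolvable_of_isSolvable_injective (inclusion_injective (hLH.trans hHT))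
  exact Cfsg.Agent.TwoFusion.PerfCore.eq_bot_of_perfect_of_solvable hL h4

/-! ### rank one set-ups -/

section RankOne

open MulAction Cfsg.Agent.LieRecognition.RankOneBasic

theorem of_setup [Finite G] (hFT : ∀ (X : Type u) [Group X] [Finite X], Odd (Nat.card X) → Group.IsSolvable X)
    {Ω : Type*} [MulAction G Ω] {a : Ω} {w : G} {Q : Subgroup G} (hS : IsRankOneSetup G Ω a w Q)
    (hQ : IsPGroup 2 Q) : TwoSolv G := by
  have h2 : Fact (Nat.Prime 2) := ⟨Nat.prime_two⟩
  intro H L hH hLH hL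
  set R : Subgroup G := (pCore 2 ↥H).map H.subtype with hR
  have hRp : IsPGroup 2 ↥R := map_pCore_isPGroup 2 H
  have hR1 : R ≠ ⊥ := fun h => hH ((map_eq_bot_iff_of_injective _ H.subtype_injective).1 h)
  obtain ⟨u, huR, hu2, huc⟩ := exists_central hRp hR1
  have huu : u * u = 1 := by rw [← pow_two, ← hu2]; exact pow_orderOf_eq_one u
  have hu1 : u ≠ 1 := by
    rintro rfl
    rw [orderOf_one] at hu2
    omega
  have hfin := finite_points hS
  have hoddΩ : ¬ 2 ∣ Nat.card Ω := by
    have := odd_card_points hS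
    rwa [← Nat.not_even_iff_odd, even_iff_two_dvd] at this
  obtain ⟨c, hc⟩ := hRp.nonempty_fixed_point_of_prime_not_dvd_card Ω hoddΩ
  have hcR : ∀ r ∈ R, r • c = c := fun r hr => hc ⟨r, hr⟩
  have hHR : H ≤ normalizer (R : Set G) := le_normalizer_map_pCore 2 H
  have hHc : ∀ h ∈ H, h • c = c := by
    intro h hh
    refine fixed_unique hS hu1 huu (b := h • c) (c := c) ?_ (hcR u huR)
    have h1 : h⁻¹ * u * h ∈ R := by
      have := (mem_normalizer_iff.1 (hHR (inv_mem hh)) u).1 huR
      simpa using this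
    have h3 := hcR _ h1
    calc u • h • c = h • (h⁻¹ * u * h) • c := by rw [← mul_smul, ← mul_smul]; congr 1; group
      _ = h • c := by rw [h3]
  obtain ⟨g, hg⟩ := exists_smul_eq' hS c a
  -- the stabilizer of `a` is solvable
  set S : Subgroup G := stabilizer G a with hSd
  have hQn : (Q.subgroupOf S).Normal := (normal_subgroupOf_iff_le_normalizer hS.le).2 (stabilizer_le_normalizer hS)
  have hQp : IsPGroup 2 ↥(Q.subgroupOf S) := hQ.comap_subtype
  have hodd : Odd (Q.subgroupOf S).index := by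
    set D : Subgroup G := stabilizer G a ⊓ stabilizer G (w • a) with hD
    let f : ↥D →* ↥S ⧸ Q.subgroupOf S := (QuotientGroup.mk' (Q.subgroupOf S)).comp (inclusion inf_le_left)
    have hf : Function.Surjective f := by
      intro y
      obtain ⟨⟨x, hx⟩, rfl⟩ := QuotientGroup.mk'_surjective _ y
      obtain ⟨q, hq, d, hd, rfl⟩ := exists_mul_of_mem_stabilizer hS hx
      refine ⟨⟨d, hd⟩, ?_⟩
      change QuotientGroup.mk' (Q.subgroupOf S) ⟨d, _⟩ = QuotientGroup.mk' (Q.subgroupOf S) ⟨q * d, hx⟩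
      rw [QuotientGroup.mk'_eq_mk']
      refine ⟨⟨d⁻¹ * q * d, ?_⟩, ?_, ?_⟩
      · exact mul_mem (mul_mem (inv_mem hd.1) (hS.le hq)) hd.1
      · have h5 := (mem_normalizer_iff.1 (stabilizer_le_normalizer hS (inv_mem hd.1)) q).1 hq
        rw [mem_subgroupOf]
        simpa using h5
      · apply Subtype.ext
        change d * (d⁻¹ * q * d) = q * d
        group
    have h5 := hS.odd_card
    rw [Subgroup.index_eq_card]
    exact h5.of_dvd_nat (card_dvd_of_surjective f hf)
  have hs := solvable_of_odd hFT _ hQp hodd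
  have hLS : L.map (MulAut.conj g).toMonoidHom ≤ S := by
    rintro _ ⟨x, hx, rfl⟩
    change (g * x * g⁻¹) • a = a
    rw [← hg, mul_smul, mul_smul, inv_smul_smul, hHc x (hLH hx)]
  have h4 : Group.IsSolvable ↥(L.map (MulAut.conj g).toMonoidHom) :=
    Group.isSolvable_of_isSolvable_injective (inclusion_injective hLS)
  have h5 := Cfsg.Agent.TwoFusion.PerfCore.eq_bot_of_perfect_of_solvable (P := L.map (MulAut.conj g).toMonoidHom)
    (by rw [← map_commutator, hL]) h4
  exact (map_eq_bot_iff_of_injective _ (MulAut.conj g).injective).1 h5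

end RankOne

/-! ### the rows -/

section Rows

open Matrix

/-- `U₃(2ⁿ)` -/
theorem u3 (hFT : ∀ (X : Type) [Group X] [Finite X], Odd (Nat.card X) → Group.IsSolvable X)
    [Finite G] (F : Type) [Field F] [Fintype F] (n : ℕ) (hn : 1 ≤ n)
    (hF : Fintype.card F = (2 ^ n) ^ 2) (h : Nonempty (G ≃* PSU 3 F (2 ^ n))) : TwoSolv G := by
  obtain ⟨e⟩ := h
  have : Fact (Nat.Prime 2) := ⟨Nat.prime_two⟩
  have hfin : Finite (PSU 3 F (2 ^ n)) := Finite.of_equiv _ e.toEquiv
  have hF' : Fintype.card F = 2 ^ (n * 2) := by rw [hF, pow_mul]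
  have hch : CharP F 2 := charP_of_card_eq_prime_pow hF'
  have hσ : Fact (∀ x, iterateFrobenius F 2 n (iterateFrobenius F 2 n x) = x) := by
    refine ⟨fun x => ?_⟩
    rw [iterateFrobenius_def, iterateFrobenius_def, ← pow_mul, ← pow_two, ← hF, FiniteField.pow_card]
  have hF2 : Nat.card F = (2 ^ n) ^ 2 := by rw [Nat.card_eq_fintype_card, hF]
  obtain ⟨H, S, w, ψ, hfaith, hsetup, -, -⟩ :=
    Cfsg.Agent.SuzukiRankOne.PSUModel.exists_model (σ := iterateFrobenius F 2 n) hn
      (fun x => iterateFrobenius_def 2 n x) hF2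
  have hS : IsPGroup 2 S := by
    refine IsPGroup.of_card (n := n * 3) ?_
    rw [← Nat.card_congr ψ.toEquiv, Cfsg.Agent.LieRecognition.HermHeis.card_heis
      (Nat.one_lt_two_pow (by omega)) (fun x => iterateFrobenius_def 2 n x) hF2, ← pow_mul]
  exact (of_setup hFT hsetup hS).congr e

/-- the Suzuki groups -/
theorem sz (hFT : ∀ (X : Type) [Group X] [Finite X], Odd (Nat.card X) → Group.IsSolvable X)
    [Finite G] (h : Lie.IsoSuzuki G) : TwoSolv G := by
  obtain ⟨F, iF, iFin, m, hm, hF, ⟨e⟩⟩ := h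
  have hfin : Finite ↥(Lie.Sz F (2 ^ (m + 1))) := Finite.of_equiv _ e.toEquiv
  have H := Cfsg.Agent.LieRecognition.SzMatrix.good hF
  have hS : IsPGroup 2 H.unip := by
    refine IsPGroup.of_card (n := (2 * m + 1) * 2) ?_
    rw [H.card_unip, Nat.card_eq_fintype_card, hF, ← pow_mul]
  exact (of_setup hFT (Cfsg.Agent.SuzukiRankOne.SzModel.setup H) hS).congr e

/-- `L₂(2ⁿ)` -/
theorem l2_even (hFT : ∀ (X : Type u) [Group X] [Finite X], Odd (Nat.card X) → Group.IsSolvable X)
    [Finite G] {F : Type*} [Field F] [Fintype F] [CharP F 2] (e : G ≃* ProjectiveSpecialLinearGroup (Fin 2) F) :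
    TwoSolv G := by
  refine of_elementary hFT fun z y hz hzy => ?_
  have hz1 : z ≠ 1 := by
    rintro rfl
    rw [orderOf_one] at hz
    omega
  exact Cfsg.Agent.WeakTI.PslTwo.cent e (by have := pow_orderOf_eq_one z; rwa [hz, pow_two] at this) hz1 hzy

/-- the Bender groups -/
theorem bender (hFT : ∀ (X : Type) [Group X] [Finite X], Odd (Nat.card X) → Group.IsSolvable X)
    (hFT' : ∀ (X : Type u) [Group X] [Finite X], Odd (Nat.card X) → Group.IsSolvable X)
    [Finite G] (h : IsBenderGroup G) : TwoSolv G := by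
  rcases h with ⟨F, _, _, hF, -, ⟨e⟩⟩ | ⟨F, _, _, n, hn, hF, h⟩ | h
  · exact l2_even hFT' e
  · exact u3 hFT F n (by omega) hF h
  · exact sz hFT h

theorem solvable_of_card_48 {C : Type*} [Group C] (h : Nat.card C = 48) : Group.IsSolvable C := by
  have : Finite C := Nat.finite_of_card_ne_zero (by rw [h]; norm_num)
  exact Cfsg.Agent.GH.C2SevenTop.solvable_of_dvd (p := 2) (q := 3) (a := 4) (b := 1) Nat.prime_two Nat.prime_three
    (by rw [h]; norm_num)

/-- `M₁₁` -/
theorem m11 [Finite G] (h : Spor.IsoM11 G) : TwoSolv G := by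
  have h1 := Cfsg.Agent.Cit.Eleven.isM11 h
  refine of_card_sixteen (m := 495) (p := 3) (q := 5) (a := 2) (b := 1) (fun z hz => ?_) h1.2 (by decide)
    Nat.prime_three Nat.prime_five (by norm_num) (by norm_num)
  exact solvable_of_card_48 (Cfsg.Agent.SporadicA.M11Facts.card_centralizer_two h1 hz)

open Cfsg.Agent.TwoFusion.PSL3Inv in
theorem l33_zmod : TwoSolv (ProjectiveSpecialLinearGroup (Fin 3) (ZMod 3)) := by
  have h1 := Cfsg.Agent.S0243.result (F := ZMod 3) (ZMod.card 3) 3 (by norm_num)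
  rw [Fin.prod_univ_three] at h1
  simp [-Nat.card_eq_fintype_card] at h1
  have h3 : Nat.card (ProjectiveSpecialLinearGroup (Fin 3) (ZMod 3)) = 16 * 351 := by omega
  refine of_card_sixteen (m := 351) (p := 3) (q := 5) (a := 2) (b := 1) (fun t ht => ?_) h3 (by decide)
    Nat.prime_three Nat.prime_five (by norm_num) (by norm_num)
  obtain ⟨T, P, rfl, hTT, -, hTP⟩ := exists_conj_mk Cfsg.Agent.OddHalf.Small.L33.two_ne t ht
  have hr := range_phi Cfsg.Agent.OddHalf.Small.L33.two_ne hTT hTP
  refine solvable_of_card_48 ?_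
  rw [← hr, ← Cfsg.Agent.Cit.Eleven.card_X]
  exact (Nat.card_congr (MonoidHom.ofInjective (Cfsg.Agent.OddHalf.Small.L33.phi_injective P)).toEquiv).symm

/-- `L₃(3)` -/
theorem l33 {F : Type*} [Field F] [Fintype F] (hF : Fintype.card F = 3)
    (e : G ≃* ProjectiveSpecialLinearGroup (Fin 3) F) : TwoSolv G := by
  have hcard : Fintype.card (ZMod 3) = Fintype.card F := by rw [hF, ZMod.card]
  let e' : ZMod 3 ≃+* F := FiniteField.ringEquivOfCardEq hcard
  exact l33_zmod.congr (e.trans (LieClassical.FieldTransfer.pslCongr e').symm)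

/-- `L₂(p)`, `p > 7` next to a power of 2 -/
theorem l2 [Finite G] {F : Type*} [Field F] [Fintype F] (hp : IsTwoPowerNeighbourPrime (Fintype.card F))
    (h7 : 7 < Fintype.card F) (e : G ≃* ProjectiveSpecialLinearGroup (Fin 2) F) : TwoSolv G := by
  obtain ⟨hp, hF⟩ := hp
  have hodd : Odd (Fintype.card F) := hp.odd_of_ne_two (by omega)
  have h2 : (2 : F) ≠ 0 := by
    intro h
    have h3 : CharP F (Fintype.card F) := by
      obtain ⟨n, hq, hn⟩ := FiniteField.card F (ringChar F)
      have h4 : ringChar F = Fintype.card F := by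
        rw [hn] at hp ⊢
        rw [(Nat.Prime.eq_one_of_pow hp), pow_one]
      rw [← h4]
      exact ringChar.charP F
    have h4 : Fintype.card F ∣ 2 := (CharP.cast_eq_zero_iff F (Fintype.card F) 2).1 (by exact_mod_cast h)
    have := Nat.le_of_dvd (by norm_num) h4
    omega
  have hk2 : ∀ k : ℕ, 7 < 2 ^ k → 4 ∣ 2 ^ k := by
    intro k hk
    have h2k : 2 ≤ k := by
      by_contra hcon
      have : k = 0 ∨ k = 1 := by omega
      rcases this with rfl | rfl <;> norm_num at hk
    obtain ⟨m, rfl⟩ := Nat.exists_eq_add_of_le h2k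
    exact ⟨2 ^ m, by rw [pow_add]; norm_num⟩
  have hF' : (∃ k, Fintype.card F % 4 = 3 ∧ Fintype.card F + 1 = 2 ^ k) ∨
      (∃ k, Fintype.card F % 4 = 1 ∧ Fintype.card F = 2 ^ k + 1) := by
    rcases hF with ⟨k, hk, hF⟩ | ⟨k, hF⟩
    · have h8 : 2 ^ k ≠ 7 := by
        intro h8
        rcases Nat.eq_zero_or_pos k with rfl | hk0
        · norm_num at h8
        · have : 2 ∣ 2 ^ k := dvd_pow_self 2 hk0.ne'
          omega
      have := hk2 k (by omega)
      exact Or.inr ⟨k, by omega, hF⟩
    · have := hk2 k (by omega)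
      exact Or.inl ⟨k, by omega, hF⟩
  have hfin : Finite (ProjectiveSpecialLinearGroup (Fin 2) F) := Finite.of_equiv _ e.toEquiv
  refine TwoSolv.congr e (of_rank (fun z hz => ?_) (Cfsg.Agent.TwoUniq.PSLRank.pRankLE h2))
  have h5 := Cfsg.Agent.OddHalf.Small.L2.psl2_cit_odd hodd hF' hz
  have : Fact (Nat.Prime 2) := ⟨Nat.prime_two⟩
  have := h5.isNilpotent
  infer_instance

end Rows

end Cfsg.Agent.H6.NoL
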