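import Cfsg.Agent.H8.AlpGold
import Cfsg.Agent.QTNorm.Main
import Cfsg.Agent.QTUnique.Inst
import Cfsg.Agent.QTUnique.Base
import Cfsg.Prelude.Def_QuasithinSetup

/-!
# Fusion control by a subgroup containing the normalizers of the Alperin–Goldschmidt family

* `mem_family` : the Sylow subgroup and its essential subgroups lie in `agConjFamily T`.
* `strongly_closed` : if `M` contains `N_G(D)` for all members `D` of `agConjFamily T`, then the normal 2-subgroups of `M`
  are strongly closed in `T`.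
* `not_comm_self` : in a non-abelian simple group a self-normalizing Sylow 2-subgroup is not commutative (or trivial).
-/

set_option autoImplicit false

namespace Cfsg.Agent.H6.SylUniq

open Subgroup Cfsg Cfsg.Agent.Lib.EssentialFusion Cfsg.Agent.H8.AlpGold

universe u

variable {G : Type u} [Group G]

/-- The Sylow subgroup and its essential subgroups belong to the Alperin–Goldschmidt family. -/
theorem mem_family [Finite G] (T : Sylow 2 G) {X : Subgroup G} (hX1 : X ≠ ⊥)
    (h : X = (T : Subgroup G) ∨ Ess T X) : X ∈ agConjFamily (T : Subgroup G) := by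
  have h2 : Fact (Nat.Prime 2) := ⟨Nat.prime_two⟩
  obtain ⟨hXT, hc, ⟨hd1, hd2, hd3, hd4, hd5⟩, hfull⟩ := struct_member T h
  refine ⟨hX1, hXT, ?_, hc, ?_, hd5⟩
  · have hp : IsPGroup 2 (((T : Subgroup G) ⊓ normalizer (X : Set G)).subgroupOf (normalizer (X : Set G))) :=
      (T.2.to_le inf_le_left).comap_subtype
    exact ⟨hp.toSylow hfull, rfl⟩
  · rw [commutator_eq_bot_iff_le_centralizer]
    intro a ha
    rw [mem_centralizer_iff]
    intro b hb
    exact (hd3 a ha b hb).symm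

/-- `x ↦ pr l` stays in `M`. -/
theorem pr_mem {M : Subgroup G} {F : Subgroup G → Prop}
    (h : ∀ D : Subgroup G, D ≠ ⊥ → F D → normalizer (D : Set G) ≤ M) :
    ∀ (l : List (Subgroup G × G)) (A : Subgroup G), A ≠ ⊥ → Ch F l A → pr l ∈ M := by
  intro l
  induction l with
  | nil => intro A _ _; simp [pr]
  | cons q l ih =>
    intro A hA hc
    obtain ⟨h1, h2, h3, h4⟩ := hc
    have hq : q.1 ≠ ⊥ := fun e => hA (eq_bot_iff.2 (e ▸ h2))
    have e : pr (q :: l) = q.2 * pr l := by simp [pr]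
    rw [e]
    refine mul_mem (h _ hq h1 h3) (ih _ ?_ h4)
    rw [Ne, map_eq_bot_iff_of_injective _ (MulAut.conj q.2⁻¹).injective]
    exact hA

/-- **Fusion of elements is controlled by `M`.** -/
theorem exists_conj_mem [Finite G] (T : Sylow 2 G) (M : Subgroup G)
    (h : ∀ D ∈ agConjFamily (T : Subgroup G), normalizer (D : Set G) ≤ M) {x g : G}
    (hx : x ∈ (T : Subgroup G)) (hgx : g * x * g⁻¹ ∈ (T : Subgroup G)) :
    ∃ m ∈ M, g * x * g⁻¹ = m * x * m⁻¹ := by
  have h2 : Fact (Nat.Prime 2) := ⟨Nat.prime_two⟩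
  by_cases hx1 : x = 1
  · exact ⟨1, one_mem _, by rw [hx1]; group⟩
  have hA1 : zpowers x ≠ ⊥ := by rwa [Ne, zpowers_eq_bot]
  have hA : zpowers x ≤ (T : Subgroup G) := by rwa [zpowers_le]
  have hgA : (zpowers x).map (MulAut.conj (g⁻¹)⁻¹).toMonoidHom ≤ (T : Subgroup G) := by
    rw [MonoidHom.map_zpowers, zpowers_le, inv_inv]
    exact hgx
  obtain ⟨l, c, -, hl, hc, hg⟩ := exists_chain T hA hgA
  have hm : pr l ∈ M := pr_mem (fun D hD hF => h D (mem_family T hD hF)) l _ hA1 hl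
  have hcx : x * c = c * x := mem_centralizer_iff.1 hc x (mem_zpowers x)
  refine ⟨(pr l)⁻¹, inv_mem hm, ?_⟩
  have hg' : g = (pr l)⁻¹ * c⁻¹ := by
    rw [← mul_inv_rev, ← hg, inv_inv]
  rw [hg', mul_inv_rev, inv_inv, inv_inv]
  calc (pr l)⁻¹ * c⁻¹ * x * (c * pr l) = (pr l)⁻¹ * c⁻¹ * (x * c) * pr l := by group
    _ = (pr l)⁻¹ * x * pr l := by rw [hcx]; group

/-- A 2-subgroup normalized by the Sylow 2-subgroup `T` lies in `T`. -/
theorem le_sylow [Finite G] (T : Sylow 2 G) {U : Subgroup G} (hU : IsPGroup 2 U)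
    (hT : (T : Subgroup G) ≤ normalizer (U : Set G)) : U ≤ (T : Subgroup G) := by
  have h2 : Fact (Nat.Prime 2) := ⟨Nat.prime_two⟩
  have h3 : IsPGroup 2 (U ⊔ (T : Subgroup G) : Subgroup G) := hU.to_sup_of_normal_left' T.2 hT
  have h4 : (U ⊔ (T : Subgroup G) : Subgroup G) = (T : Subgroup G) := T.3 h3 le_sup_right
  rw [← h4]
  exact le_sup_left

/-- **The normal 2-subgroups of `M` are strongly closed in `T`.** -/
theorem strongly_closed [Finite G] (T : Sylow 2 G) (M : Subgroup G) (hT : (T : Subgroup G) ≤ M)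
    (h : ∀ D ∈ agConjFamily (T : Subgroup G), normalizer (D : Set G) ≤ M) {U : Subgroup G}
    (hUn : M ≤ normalizer (U : Set G)) (hU : IsPGroup 2 U) : IsStronglyClosed U (T : Subgroup G) := by
  have hUT : U ≤ (T : Subgroup G) := le_sylow T hU (hT.trans hUn)
  refine ⟨hUT, fun x hx g hg => ?_⟩
  obtain ⟨m, hm, e⟩ := exists_conj_mem T M h (hUT hx) hg
  rw [e]
  exact (mem_normalizer_iff.1 (hUn hm) x).1 hx

/-- In a non-abelian simple group, a commutative Sylow 2-subgroup `T ≠ 1` is not self-normalizing. -/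
theorem not_self [Finite G] [IsSimpleGroup G] (hG : ¬ IsMulCommutative G) (T : Sylow 2 G)
    (hT1 : (T : Subgroup G) ≠ ⊥) (hT : IsMulCommutative (T : Subgroup G))
    (hN : normalizer ((T : Subgroup G) : Set G) ≤ (T : Subgroup G)) : False := by
  have h2 : Fact (Nat.Prime 2) := ⟨Nat.prime_two⟩
  have h1 : normalizer ((T : Subgroup G) : Set G) ≤ centralizer ((T : Subgroup G) : Set G) := by
    intro x hx
    rw [mem_centralizer_iff]
    intro t ht
    exact congrArg Subtype.val (hT.is_comm.comm (⟨t, ht⟩ : (T : Subgroup G)) ⟨x, hN hx⟩)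
  have h3 := MonoidHom.ker_transferSylow_isComplement' T h1
  rcases (inferInstance : (MonoidHom.transferSylow T h1).ker.Normal).eq_bot_or_eq_top with h4 | h4
  · rw [h4] at h3
    have h5 : (T : Subgroup G) = ⊤ := by
      have := h3.sup_eq_top
      rwa [bot_sup_eq] at this
    apply hG
    refine ⟨⟨fun a b => ?_⟩⟩
    have ha : a ∈ (T : Subgroup G) := by rw [h5]; trivial
    have hb : b ∈ (T : Subgroup G) := by rw [h5]; trivial
    exact congrArg Subtype.val (hT.is_comm.comm (⟨a, ha⟩ : (T : Subgroup G)) ⟨b, hb⟩)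
  · rw [h4] at h3
    apply hT1
    have := h3.disjoint.eq_bot
    rwa [top_inf_eq] at this

/-- The rows of S1819 that are not Bender groups have self-normalizing Sylow 2-subgroups. -/
theorem self_rows
    (h : (∃ (F : Type) (_ : Field F) (_ : Fintype F), Cfsg.IsTwoPowerNeighbourPrime (Fintype.card F) ∧
          7 < Fintype.card F ∧ Nonempty (G ≃* Matrix.ProjectiveSpecialLinearGroup (Fin 2) F)) ∨
      (∃ (F : Type) (_ : Field F) (_ : Fintype F), Fintype.card F = 3 ∧
          Nonempty (G ≃* Matrix.ProjectiveSpecialLinearGroup (Fin 3) F)) ∨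
      Cfsg.Spor.IsoM11 G) (T : Sylow 2 G) :
    normalizer ((T : Subgroup G) : Set G) ≤ (T : Subgroup G) := by
  rcases h with ⟨F, _, _, ⟨hp, hF⟩, h7, ⟨e⟩⟩ | ⟨F, _, _, hF, ⟨e⟩⟩ | h
  · have hodd : Odd (Fintype.card F) := hp.odd_of_ne_two (by omega)
    refine (QTNorm.PslTwo.sn_odd hodd (by omega) ?_).congr e.symm T
    have hpow : ∀ k : ℕ, 2 ≤ k → 4 ∣ 2 ^ k := fun k hk => by
      obtain ⟨m, rfl⟩ := Nat.exists_eq_add_of_le hk
      exact ⟨2 ^ m, by rw [pow_add]; norm_num⟩
    have hk2 : ∀ k : ℕ, 7 < 2 ^ k → 4 ∣ 2 ^ k := by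
      intro k hk
      apply hpow
      by_contra hcon
      have : k = 0 ∨ k = 1 := by omega
      rcases this with rfl | rfl <;> norm_num at hk
    rcases hF with ⟨k, hk, hF⟩ | ⟨k, hF⟩
    · have h8 : 2 ^ k ≠ 7 := by
        intro h8
        rcases Nat.eq_zero_or_pos k with rfl | hk0
        · norm_num at h8
        · have : 2 ∣ 2 ^ k := dvd_pow_self 2 hk0.ne'
          omega
      have := hk2 k (by omega)
      exact Or.inr ⟨k, by omega, hF⟩
    · have := hk2 k (by omega)
      exact Or.inl ⟨k, by omega, hF⟩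
  · exact (QTNorm.LThreeThree.sn F hF).congr e.symm T
  · exact QTNorm.selfN_m11 h T

/-- **S1847**, from the theorem on unique maximal 2-locals over a Sylow subgroup and Goldschmidt's theorem. -/
theorem main [Finite G] [IsSimpleGroup G] (hG : ¬ IsMulCommutative G) (T : Sylow 2 G) (M : Subgroup G)
    (hM : Cfsg.maxTwoLocalsContaining (T : Subgroup G) = {M})
    (h : ∀ D ∈ Cfsg.agConjFamily (T : Subgroup G), Subgroup.normalizer (D : Set G) ≤ M)
    (h1819 : Cfsg.IsBenderGroup G ∨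
      (∃ (F : Type) (_ : Field F) (_ : Fintype F), Cfsg.IsTwoPowerNeighbourPrime (Fintype.card F) ∧
          7 < Fintype.card F ∧ Nonempty (G ≃* Matrix.ProjectiveSpecialLinearGroup (Fin 2) F)) ∨
      (∃ (F : Type) (_ : Field F) (_ : Fintype F), Fintype.card F = 3 ∧
          Nonempty (G ≃* Matrix.ProjectiveSpecialLinearGroup (Fin 3) F)) ∨
      Cfsg.Spor.IsoM11 G)
    (hGold : ∀ A : Subgroup G, A ≠ ⊥ → IsMulCommutative A → Cfsg.IsStronglyClosed A (T : Subgroup G) →
      IsMulCommutative (T : Subgroup G) ∨ ∃ H : Subgroup G, Cfsg.IsStronglyEmbedded H) :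
    (∀ U : Subgroup G, U ≤ M → M ≤ Subgroup.normalizer (U : Set G) → IsPGroup 2 ↥U →
        Cfsg.IsStronglyClosed U (T : Subgroup G)) ∧
      Cfsg.IsBenderGroup G := by
  have h2 : Fact (Nat.Prime 2) := ⟨Nat.prime_two⟩
  obtain ⟨hMm, hTM⟩ := QTUnique.unique_mem hM
  refine ⟨fun U _ hUn hU => strongly_closed T M hTM h hUn hU, ?_⟩
  rcases h1819 with h1 | h1
  · exact h1
  obtain ⟨K, hK, hK1, hMK⟩ := hMm.1
  have hKM : M ≤ normalizer (K : Set G) := hMK.le
  have hKT : K ≤ (T : Subgroup G) := le_sylow T hK (hTM.trans hKM)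
  have hT1 : (T : Subgroup G) ≠ ⊥ := fun e => hK1 (eq_bot_iff.2 (e ▸ hKT))
  set A : Subgroup G := K ⊓ centralizer (K : Set G) with hA
  have hAp : IsPGroup 2 A := hK.to_le inf_le_left
  have hAc : IsMulCommutative A := by
    refine ⟨⟨fun a b => Subtype.ext ?_⟩⟩
    exact mem_centralizer_iff.1 (b.2 : (b : G) ∈ K ⊓ centralizer (K : Set G)).2 a
      (a.2 : (a : G) ∈ K ⊓ centralizer (K : Set G)).1
  have hA1 : A ≠ ⊥ := by
    have hKn : Nontrivial K := (Subgroup.nontrivial_iff_ne_bot K).2 hK1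
    have hc := hK.center_nontrivial
    obtain ⟨⟨z, hz⟩, hz1⟩ := exists_ne (1 : center K)
    intro e
    apply hz1
    have hzA : (z : G) ∈ A := by
      refine mem_inf.2 ⟨z.2, ?_⟩
      rw [mem_centralizer_iff]
      intro k hk
      exact congrArg Subtype.val (mem_center_iff.1 hz ⟨k, hk⟩)
    rw [e, mem_bot] at hzA
    exact Subtype.ext (Subtype.ext hzA)
  have hAn : M ≤ normalizer (A : Set G) := by
    have key : ∀ g ∈ normalizer (K : Set G), ∀ x ∈ A, g * x * g⁻¹ ∈ A := by
      rintro g hg x ⟨hx1, hx2⟩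
      refine mem_inf.2 ⟨(mem_normalizer_iff.1 hg x).1 hx1, ?_⟩
      rw [mem_centralizer_iff]
      intro k hk
      have hk' : g⁻¹ * k * g ∈ K := by
        have := (mem_normalizer_iff.1 (inv_mem hg) k).1 hk
        simpa using this
      have h5 := mem_centralizer_iff.1 hx2 _ hk'
      calc k * (g * x * g⁻¹) = g * ((g⁻¹ * k * g) * x) * g⁻¹ := by group
        _ = g * (x * (g⁻¹ * k * g)) * g⁻¹ := by rw [h5]
        _ = g * x * g⁻¹ * k := by group
    intro g hg
    rw [mem_normalizer_iff]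
    intro x
    refine ⟨key g (hKM hg) x, fun hx => ?_⟩
    have h1 := key g⁻¹ (inv_mem (hKM hg)) _ hx
    have h2 : g⁻¹ * (g * x * g⁻¹) * g⁻¹⁻¹ = x := by group
    rwa [h2] at h1
  rcases hGold A hA1 hAc (strongly_closed T M hTM h hAn hAp) with h3 | ⟨H, hH⟩
  · exact (not_self hG T hT1 h3 (self_rows h1 T)).elim
  · exact QTUnique.bender_of_emb hG hH

end Cfsg.Agent.H6.SylUniq
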